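import Mathlib

/-!
Bilinear alternating maps on a finite field `F` of order `p ^ a` invariant under multiplication by
an element `l` of prime order `q`, where `a` is the order of `p` modulo `q`.
-/

set_option autoImplicit false

namespace Cfsg.Agent.Lib.SchmidtUniv

open Polynomial

/-- The standing data: a field of order `p ^ a` and an element of order `q`. -/
structure FieldData (p q a : ℕ) (F : Type) [Field F] (l : F) : Prop where
  order : orderOf l = q
  card : Nat.card F = p ^ a
  exp : a = orderOf (p : ZMod q)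

variable {p q a : ℕ} [Fact p.Prime] [Fact q.Prime] {F : Type} [Field F] [Finite F]
  [Algebra (ZMod p) F] {l : F}

namespace FieldData

variable (D : FieldData p q a F l)
include D

omit [Finite F] [Algebra (ZMod p) F] [Fact p.Prime] in
theorem pow_q : l ^ q = 1 := D.order ▸ pow_orderOf_eq_one l

omit [Finite F] [Algebra (ZMod p) F] [Fact p.Prime] in
theorem ne_zero : l ≠ 0 := by
  intro h
  have := D.pow_q
  rw [h, zero_pow (Fact.out : q.Prime).ne_zero] at this
  exact zero_ne_one this

omit [Finite F] [Algebra (ZMod p) F] [Fact p.Prime] in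
theorem ne_one : l ≠ 1 := by
  intro h
  have := D.order
  rw [h, orderOf_one] at this
  exact (Fact.out : q.Prime).one_lt.ne this

omit [Algebra (ZMod p) F] in
theorem a_pos : 0 < a := by
  rcases Nat.eq_zero_or_pos a with rfl | h
  · have h := D.card
    rw [pow_zero] at h
    exact absurd h Finite.one_lt_card.ne'
  · exact h

theorem adjoin_eq_top : Algebra.adjoin (ZMod p) {l} = ⊤ := by
  classical
  set S := Algebra.adjoin (ZMod p) ({l} : Set F) with hS
  letI := Fintype.ofFinite S
  letI : Field S := Fintype.fieldOfDomain S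
  set L : S := ⟨l, Algebra.subset_adjoin rfl⟩ with hL
  have hcard : Fintype.card S = p ^ Module.finrank (ZMod p) S := by
    rw [Module.card_eq_pow_finrank (K := ZMod p) (V := S), ZMod.card]
  have hL0 : L ≠ 0 := fun e => D.ne_zero (congrArg Subtype.val e)
  have h1 : l ^ (Fintype.card S - 1) = 1 :=
    congrArg Subtype.val (FiniteField.pow_card_sub_one_eq_one L hL0)
  have h2 : (p : ZMod q) ^ Module.finrank (ZMod p) S = 1 := by
    have h3 : q ∣ Fintype.card S - 1 := D.order ▸ orderOf_dvd_of_pow_eq_one h1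
    have h4 : ((Fintype.card S - 1 : ℕ) : ZMod q) = 0 := (ZMod.natCast_eq_zero_iff _ _).2 h3
    rw [Nat.cast_sub Fintype.card_pos, sub_eq_zero, hcard] at h4
    simpa using h4
  have h5 : a ∣ Module.finrank (ZMod p) S := D.exp ▸ orderOf_dvd_of_pow_eq_one h2
  have hle : Nat.card F ≤ Nat.card S := by
    rw [D.card, Nat.card_eq_fintype_card, hcard]
    refine Nat.pow_le_pow_right (Fact.out : p.Prime).pos (Nat.le_of_dvd ?_ h5)
    exact Module.finrank_pos
  have hbij := (Subtype.val_injective : Function.Injective ((↑) : S → F)).bijective_of_nat_card_le hle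
  exact Algebra.eq_top_iff.2 fun x => by obtain ⟨y, rfl⟩ := hbij.2 x; exact y.2

theorem exists_aeval_eq (x : F) : ∃ f : (ZMod p)[X], aeval l f = x := by
  have hx : x ∈ Algebra.adjoin (ZMod p) ({l} : Set F) := D.adjoin_eq_top ▸ Algebra.mem_top
  rwa [Algebra.adjoin_singleton_eq_range_aeval, AlgHom.mem_range] at hx

omit D [Finite F] [Fact q.Prime] in
theorem smul_mem' {M : Type*} [AddCommGroup M] [Module (ZMod p) M] (T : AddSubgroup M) {x : M}
    (c : ZMod p) (hx : x ∈ T) : c • x ∈ T := by
  have h : c • x = c.val • x := by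
    rw [← Nat.cast_smul_eq_nsmul (ZMod p), ZMod.natCast_zmod_val]
  exact h ▸ nsmul_mem hx _

/-- An additive subgroup containing every power of `l` is everything. -/
theorem addSubgroup_eq_top (T : AddSubgroup F) (h : ∀ n : ℕ, l ^ n ∈ T) : T = ⊤ := by
  rw [eq_top_iff]
  intro x hxT; clear hxT
  obtain ⟨f, rfl⟩ := D.exists_aeval_eq x
  induction f using Polynomial.induction_on' with
  | add f g hf hg => rw [map_add]; exact add_mem hf hg
  | monomial n c => rw [aeval_monomial, ← Algebra.smul_def]; exact smul_mem' T c (h n)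

theorem hom_ext {M : Type*} [AddCommGroup M] {f g : F →+ M} (h : ∀ n : ℕ, f (l ^ n) = g (l ^ n)) :
    f = g := by
  have := D.addSubgroup_eq_top (f.eqLocus g) h
  exact AddMonoidHom.ext fun x => (this ▸ AddSubgroup.mem_top x : x ∈ f.eqLocus g)

omit [Finite F] [Algebra (ZMod p) F] [Fact p.Prime] in
theorem two_lt (ha : 1 < a) : 2 < q := by
  rcases (Fact.out : q.Prime).two_le.lt_or_eq with h | h
  · exact h
  · exfalso
    subst h
    have hp : (p : ZMod 2) = 0 ∨ (p : ZMod 2) = 1 := by
      generalize (p : ZMod 2) = x; fin_cases x <;> first | exact Or.inl rfl | exact Or.inr rfl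
    rcases hp with hp | hp
    · rw [D.exp, hp, orderOf_zero] at ha; omega
    · rw [D.exp, hp, orderOf_one] at ha; omega

omit [Finite F] [Algebra (ZMod p) F] [Fact p.Prime] in
theorem inv_ne (ha : 1 < a) : l⁻¹ ≠ l := by
  intro h
  have h2 : l ^ 2 = 1 := by
    rw [sq]
    nth_rewrite 1 [← h]
    exact inv_mul_cancel₀ D.ne_zero
  have := Nat.le_of_dvd two_pos (D.order ▸ orderOf_dvd_of_pow_eq_one h2)
  have := D.two_lt ha
  omega

theorem pow_half (he : Even a) : l ^ (p ^ (a / 2)) = l⁻¹ := by
  obtain ⟨b, hb⟩ := he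
  have ha := D.a_pos
  have hb2 : a / 2 = b := by omega
  have h1 : ((p : ZMod q) ^ b) ^ 2 = 1 := by
    rw [← pow_mul, show b * 2 = a by omega, D.exp, pow_orderOf_eq_one]
  have h2 : (p : ZMod q) ^ b ≠ 1 := pow_ne_one_of_lt_orderOf (by omega) (D.exp ▸ (by omega : b < a))
  have h3 : (p : ZMod q) ^ b = -1 := (sq_eq_one_iff.1 h1).resolve_left h2
  have h4 : q ∣ p ^ b + 1 := by
    rw [← ZMod.natCast_eq_zero_iff]
    push_cast
    rw [h3]; ring
  rw [hb2]
  apply eq_inv_of_mul_eq_one_left
  rw [← pow_succ, ← orderOf_dvd_iff_pow_eq_one, D.order]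
  exact h4

end FieldData

variable [CharP F p]

/-- `x ↦ x ^ (p ^ (a / 2)) + x`. -/
noncomputable def tau (p a : ℕ) [Fact p.Prime] (F : Type) [Field F] [CharP F p] : F →+ F :=
  (iterateFrobenius F p (a / 2)).toAddMonoidHom + AddMonoidHom.id F

omit [Finite F] [Algebra (ZMod p) F] in
theorem tau_apply (x : F) : tau p a F x = x ^ p ^ (a / 2) + x := by
  simp [tau, iterateFrobenius_def]

namespace FieldData

variable (D : FieldData p q a F l)
include D

omit [Algebra (ZMod p) F] [Fact q.Prime] in
theorem pow_half_twice (he : Even a) (x : F) : (x ^ p ^ (a / 2)) ^ p ^ (a / 2) = x := by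
  letI := Fintype.ofFinite F
  have h : p ^ (a / 2) * p ^ (a / 2) = Fintype.card F := by
    rw [← pow_add, ← Nat.card_eq_fintype_card, D.card]
    obtain ⟨b, hb⟩ := he
    congr 1; omega
  rw [← pow_mul, h, FiniteField.pow_card]

omit [Algebra (ZMod p) F] [Fact q.Prime] in
theorem card_tau_range (he : Even a) (ha : 0 < a) :
    Nat.card (tau p a F).range = p ^ (a / 2) ∧ (tau p a F).range.index = p ^ (a / 2) := by
  classical
  obtain ⟨b, hb⟩ := id he
  set s := p ^ (a / 2) with hs
  have hs1 : 1 < s := Nat.one_lt_pow (by omega) (Fact.out : p.Prime).one_lt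
  have hroot : ∀ c : F, ∀ T : AddSubgroup F, (∀ x ∈ T, x ^ s + c * x = 0) → Nat.card T ≤ s := by
    intro c T hT
    set P : F[X] := X ^ s + C c * X with hP
    have hdeg : P.natDegree = s := by
      rw [hP, natDegree_add_eq_left_of_natDegree_lt, natDegree_X_pow]
      rw [natDegree_X_pow]
      refine lt_of_le_of_lt (natDegree_C_mul_le c X) ?_
      rw [natDegree_X]; exact hs1
    have hP0 : P ≠ 0 := ne_zero_of_natDegree_gt (hdeg ▸ hs1)
    have hsub : (T : Set F) ⊆ ↑P.roots.toFinset := by
      intro x hx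
      rw [Finset.mem_coe, Multiset.mem_toFinset, mem_roots hP0, IsRoot.def, hP]
      simpa using hT x hx
    calc Nat.card T = (T : Set F).ncard := by rw [← Nat.card_coe_set_eq]; rfl
      _ ≤ P.roots.toFinset.card := by
          rw [← Set.ncard_coe_finset]; exact Set.ncard_le_ncard hsub (Finset.finite_toSet _)
      _ ≤ P.roots.card := Multiset.toFinset_card_le _
      _ ≤ s := hdeg ▸ card_roots' P
  have hk : Nat.card (tau p a F).ker ≤ s := hroot 1 _ fun x hx => by
    rw [AddMonoidHom.mem_ker, tau_apply, ← hs] at hx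
    simpa using hx
  have hr : Nat.card (tau p a F).range ≤ s := hroot (-1) _ fun x hx => by
    obtain ⟨y, rfl⟩ := hx
    rw [tau_apply, add_pow_char_pow, ← hs, D.pow_half_twice he]
    ring
  have hmul : Nat.card (tau p a F).ker * Nat.card (tau p a F).range = s * s := by
    rw [← AddSubgroup.index_ker, AddSubgroup.card_mul_index, D.card, hs, ← pow_add]
    congr 1; omega
  have hr' : Nat.card (tau p a F).range = s := by
    refine le_antisymm hr ?_
    by_contra hlt
    push Not at hlt
    have := Nat.mul_le_mul_right (Nat.card (tau p a F).range) hk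
    rw [hmul] at this
    exact absurd (Nat.le_of_mul_le_mul_left this (by omega)) (not_le.2 hlt)
  refine ⟨hr', ?_⟩
  have h := AddSubgroup.card_mul_index (tau p a F).range
  rw [hr', D.card] at h
  have h2 : p ^ a = s * s := by
    rw [hs, ← pow_add]; congr 1; omega
  rw [h2] at h
  exact Nat.eq_of_mul_eq_mul_left (by omega) h

/-- An invariant alternating bilinear map has image of order at most `p ^ (a₀ - a)`. -/
theorem card_le_of_invariant {A : Type*} [AddCommGroup A] [Finite A] (c : F →+ F →+ A)
    (halt : ∀ x, c x x = 0) (hinv : ∀ x y, c (l * x) (l * y) = c x y)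
    (hgen : AddSubgroup.closure (Set.range fun z : F × F => c z.1 z.2) = ⊤) :
    Nat.card A ≤ if a % 2 = 1 then 1 else p ^ (a / 2) := by
  have hskew : ∀ x y, c x y = - c y x := by
    intro x y
    have h := halt (x + y)
    simp only [map_add, AddMonoidHom.add_apply, halt, zero_add, add_zero] at h
    rw [add_comm] at h
    exact eq_neg_of_add_eq_zero_left h
  have hinvn : ∀ n : ℕ, ∀ x y, c (l ^ n * x) (l ^ n * y) = c x y := by
    intro n
    induction n with
    | zero => simp
    | succ n ih => intro x y; rw [pow_succ', mul_assoc, mul_assoc, hinv, ih]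
  set γ : F →+ A := c 1 with hγ
  have hγy : ∀ (n : ℕ) y, c (l ^ n) y = γ (l⁻¹ ^ n * y) := by
    intro n y
    have h := hinvn n 1 (l⁻¹ ^ n * y)
    rw [mul_one, ← mul_assoc, ← mul_pow, mul_inv_cancel₀ D.ne_zero, one_pow, one_mul] at h
    rw [h]
  have hsurj : γ.range = ⊤ := by
    rw [eq_top_iff, ← hgen, AddSubgroup.closure_le]
    rintro _ ⟨⟨x, y⟩, rfl⟩
    have hx := D.addSubgroup_eq_top (γ.range.comap (c.flip y)) fun n => ⟨_, (hγy n y).symm⟩
    exact (hx ▸ AddSubgroup.mem_top x : x ∈ γ.range.comap (c.flip y))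
  have hanti : ∀ n : ℕ, γ (l⁻¹ ^ n) = - γ (l ^ n) := by
    intro n
    have h := hγy n 1
    rw [mul_one] at h
    rw [← h, hskew]
  have hcardA : Nat.card A = γ.ker.index := by
    rw [AddSubgroup.index_ker, hsurj, AddSubgroup.card_top]
  by_cases hodd : a % 2 = 1
  · rw [if_pos hodd]
    suffices hz : γ = 0 by
      rw [hcardA, hz]
      simp
    rcases eq_or_ne a 1 with ha1 | ha1
    · refine D.hom_ext fun n => ?_
      have hbij : Function.Bijective (algebraMap (ZMod p) F) :=
        (RingHom.injective _).bijective_of_nat_card_le (by rw [D.card, ha1, pow_one, Nat.card_zmod])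
      obtain ⟨k, hk⟩ := hbij.2 (l ^ n)
      have : l ^ n = k.val • (1 : F) := by
        rw [nsmul_eq_mul, mul_one, ← hk, ← map_natCast (algebraMap (ZMod p) F),
          ZMod.natCast_zmod_val]
      rw [this, map_nsmul, hγ, halt, smul_zero, AddMonoidHom.zero_apply]
    have ha : 1 < a := by omega
    set g := minpoly (ZMod p) l with hg
    have hint : IsIntegral (ZMod p) l := Algebra.IsIntegral.isIntegral l
    have hgl : aeval l⁻¹ g ≠ 0 := by
      intro h0
      obtain ⟨σ, hσ⟩ := minpoly.exists_algEquiv_of_root' (K := ZMod p) hint.isAlgebraic h0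
      have h2 : σ ^ 2 = 1 := by
        refine AlgEquiv.ext fun x => ?_
        obtain ⟨f, rfl⟩ := D.exists_aeval_eq x
        rw [AlgEquiv.one_apply, ← aeval_algHom_apply (σ ^ 2) l f]
        congr 2
        rw [sq, AlgEquiv.mul_apply, hσ, map_inv₀, hσ, inv_inv]
      have hfr : Module.finrank (ZMod p) F = a := by
        have h := Module.natCard_eq_pow_finrank (K := ZMod p) (V := F)
        rw [D.card, Nat.card_zmod] at h
        exact (Nat.pow_right_injective (Fact.out : p.Prime).two_le h).symm
      have hd : orderOf σ ∣ 1 := by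
        have h3 : orderOf σ ∣ a := hfr ▸ IsGalois.card_aut_eq_finrank (ZMod p) F ▸ orderOf_dvd_natCard σ
        have h4 : Nat.Coprime 2 a := Nat.prime_two.coprime_iff_not_dvd.2 (by omega)
        exact h4 ▸ Nat.dvd_gcd (orderOf_dvd_of_pow_eq_one h2) h3
      have : σ = 1 := orderOf_eq_one_iff.1 (Nat.dvd_one.1 hd)
      rw [this, AlgEquiv.one_apply] at hσ
      exact D.inv_ne ha hσ.symm
    refine AddMonoidHom.ext fun w => ?_
    -- a polynomial killing `l` with prescribed value at `l⁻¹`
    obtain ⟨f, hf⟩ := D.exists_aeval_eq (w / aeval l⁻¹ g)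
    set q' := f.comp (X ^ (q - 1)) * g with hq'
    have hlinv : l ^ (q - 1) = l⁻¹ := by
      apply eq_inv_of_mul_eq_one_left
      rw [← pow_succ, Nat.sub_add_cancel (Fact.out : q.Prime).one_lt.le, D.pow_q]
    have h1 : aeval l q' = 0 := by rw [hq', map_mul, minpoly.aeval, mul_zero]
    have h2 : aeval l⁻¹ q' = w := by
      rw [hq', map_mul, aeval_comp]
      simp only [map_pow, aeval_X]
      rw [inv_pow, hlinv, inv_inv, hf, div_mul_cancel₀ _ hgl]
    have hS : ∀ f : (ZMod p)[X], γ (aeval l⁻¹ f) = - γ (aeval l f) := by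
      intro f
      induction f using Polynomial.induction_on' with
      | add f g hf hg => rw [map_add, map_add, map_add, map_add, hf, hg, neg_add]
      | monomial n c =>
        have hc : ∀ z : F, algebraMap (ZMod p) F c * z = c.val • z := fun z => by
          rw [nsmul_eq_mul, ← map_natCast (algebraMap (ZMod p) F), ZMod.natCast_zmod_val]
        rw [aeval_monomial, aeval_monomial, hc, hc, map_nsmul, map_nsmul, hanti, smul_neg]
    rw [AddMonoidHom.zero_apply, ← h2, hS, h1, map_zero, neg_zero]
  · rw [if_neg hodd, hcardA]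
    have he : Even a := Nat.even_iff.2 (by omega)
    rw [← (D.card_tau_range he D.a_pos).2]
    refine Nat.le_of_dvd (Nat.pos_of_ne_zero AddSubgroup.index_ne_zero_of_finite)
      (AddSubgroup.index_dvd_of_le ?_)
    rintro _ ⟨x, rfl⟩
    rw [AddMonoidHom.mem_ker]
    have h := D.hom_ext (f := γ.comp (tau p a F)) (g := 0) fun n => by
      rw [AddMonoidHom.comp_apply, tau_apply, ← pow_mul, mul_comm, pow_mul, D.pow_half he, map_add,
        hanti, neg_add_cancel, AddMonoidHom.zero_apply]
    exact DFunLike.congr_fun h x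

end FieldData

end Cfsg.Agent.Lib.SchmidtUniv
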