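import Cfsg.Agent.Lib.SchmidtUniv.Model

/-!
The maximal central cover of the frame: a minimal non-`p`-nilpotent group of order `p^a₀ q^r`.
-/

set_option autoImplicit false

namespace Cfsg.Agent.Lib.SchmidtUniv

/-- The central extension of `V` by `Z` given by a bilinear map. -/
@[ext]
structure Cen {V Z : Type} [AddCommGroup V] [AddCommGroup Z] (β : V →+ V →+ Z) : Type where
  /-- the module coordinate -/
  fst : V
  /-- the central coordinate -/
  snd : Z

namespace Cen

variable {V Z : Type} [AddCommGroup V] [AddCommGroup Z] {β : V →+ V →+ Z}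

instance : One (Cen β) := ⟨⟨0, 0⟩⟩
instance : Mul (Cen β) := ⟨fun x y => ⟨x.fst + y.fst, x.snd + y.snd + β x.fst y.fst⟩⟩
instance : Inv (Cen β) := ⟨fun x => ⟨-x.fst, -x.snd + β x.fst x.fst⟩⟩

@[simp] theorem one_fst : (1 : Cen β).fst = 0 := rfl
@[simp] theorem one_snd : (1 : Cen β).snd = 0 := rfl
@[simp] theorem mul_fst (x y : Cen β) : (x * y).fst = x.fst + y.fst := rfl
@[simp] theorem mul_snd (x y : Cen β) : (x * y).snd = x.snd + y.snd + β x.fst y.fst := rfl
@[simp] theorem inv_fst (x : Cen β) : x⁻¹.fst = -x.fst := rfl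
@[simp] theorem inv_snd (x : Cen β) : x⁻¹.snd = -x.snd + β x.fst x.fst := rfl

instance : Group (Cen β) :=
  Group.ofLeftAxioms
    (fun x y z => by
      ext
      · simp [add_assoc]
      · simp only [mul_snd, mul_fst, map_add, AddMonoidHom.add_apply]; abel)
    (fun x => by ext <;> simp)
    (fun x => by ext <;> simp)

/-- The underlying bijection. -/
def equivProd : Cen β ≃ V × Z where
  toFun x := (x.fst, x.snd)
  invFun y := ⟨y.1, y.2⟩
  left_inv _ := rfl
  right_inv _ := rfl

instance [Finite V] [Finite Z] : Finite (Cen β) := Finite.of_equiv _ equivProd.symm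

/-- Projection on the module coordinate. -/
def fstHom (β : V →+ V →+ Z) : Cen β →* Multiplicative V where
  toFun x := Multiplicative.ofAdd x.fst
  map_one' := rfl
  map_mul' x y := by simp

/-- The automorphism induced by an automorphism of `V` preserving `β`. -/
def autOf (φ : V ≃+ V) (h : ∀ x y, β (φ x) (φ y) = β x y) : MulAut (Cen β) where
  toFun x := ⟨φ x.fst, x.snd⟩
  invFun x := ⟨φ.symm x.fst, x.snd⟩
  left_inv x := by ext <;> simp
  right_inv x := by ext <;> simp
  map_mul' x y := by ext <;> simp [h]

theorem autOf_pow (φ : V ≃+ V) (h : ∀ x y, β (φ x) (φ y) = β x y) (k : ℕ) (x : Cen β) :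
    (autOf φ h ^ k) x = ⟨(fun v => φ v)^[k] x.fst, x.snd⟩ := by
  induction k with
  | zero => simp
  | succ k ih =>
    rw [pow_succ', MulAut.mul_apply, ih, Function.iterate_succ_apply']
    rfl

end Cen

namespace FieldData

variable {p q a r : ℕ} [Fact p.Prime] [Fact q.Prime] {F : Type} [Field F] [Finite F]
  [Algebra (ZMod p) F] [CharP F p] {u : Fˣ} (D : FieldData p q a F (u : F)) (hr : 1 ≤ r)
include D hr

theorem exists_cover (hu : u ^ q ^ r = 1) : ∃ (X : Type) (_ : Group X) (_ : Finite X)
    (π : X →* Frame u hu), Function.Surjective π ∧ π.ker ≤ Subgroup.center X ∧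
    IsPGroup p π.ker ∧ (∀ H : Subgroup X, H.map π = ⊤ → H = ⊤) ∧
    Nat.card X = p ^ (if a % 2 = 1 then a else 3 * a / 2) * q ^ r := by
  classical
  haveI := finite_frame hu
  by_cases hodd : a % 2 = 1
  · refine ⟨Frame u hu, inferInstance, inferInstance, MonoidHom.id _, Function.surjective_id, ?_,
      ?_, fun H hH => by rwa [Subgroup.map_id] at hH, by rw [if_pos hodd, D.card_frame hu]⟩
    · rw [MonoidHom.ker_eq_bot (MonoidHom.id _) Function.injective_id]; exact bot_le
    · rw [MonoidHom.ker_eq_bot (MonoidHom.id _) Function.injective_id]; exact IsPGroup.of_bot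
  have he : Even a := Nat.even_iff.2 (by omega)
  set τ := tau p a F with hτ
  set l : F := (u : F) with hl
  set σ : F →+ F := (iterateFrobenius F p (a / 2)).toAddMonoidHom with hσ
  have hσa : ∀ x, σ x = x ^ p ^ (a / 2) := fun x => by simp [hσ, iterateFrobenius_def]
  -- the cocycle
  set β₀ : F →+ F →+ F := AddMonoidHom.mk'
    (fun x => τ.comp ((AddMonoidHom.mulLeft (l * x)).comp σ)) (fun x y => by
      ext z; simp [mul_add, add_mul, map_add]) with hβ₀
  have hβ₀a : ∀ x y, β₀ x y = τ (l * x * y ^ p ^ (a / 2)) := fun x y => by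
    simp [hβ₀, hσa]
  let β : F →+ F →+ τ.range := AddMonoidHom.mk'
    (fun x => (β₀ x).codRestrict τ.range (fun y => ⟨_, (hβ₀a x y).symm⟩))
    (fun x y => by
      ext z
      show β₀ (x + y) z = β₀ x z + β₀ y z
      simp [map_add])
  have hβa : ∀ x y, (β x y : F) = τ (l * x * y ^ p ^ (a / 2)) := fun x y => hβ₀a x y
  let φ : F ≃+ F :=
    { toFun := fun x => l * x
      invFun := fun x => l⁻¹ * x
      left_inv := fun x => by
        show l⁻¹ * (l * x) = x
        rw [← mul_assoc, inv_mul_cancel₀ D.ne_zero, one_mul]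
      right_inv := fun x => by
        show l * (l⁻¹ * x) = x
        rw [← mul_assoc, mul_inv_cancel₀ D.ne_zero, one_mul]
      map_add' := fun x y => mul_add l x y }
  have hinv : ∀ x y, β (φ x) (φ y) = β x y := by
    intro x y
    ext
    rw [hβa, hβa]
    congr 1
    show l * (l * x) * (l * y) ^ _ = _
    rw [mul_pow, D.pow_half he]
    field_simp [D.ne_zero]
  have hpowφ : ∀ (k : ℕ) (v : F), (fun v => φ v)^[k] v = l ^ k * v := by
    intro k v
    induction k with
    | zero => simp
    | succ k ih => rw [Function.iterate_succ_apply', ih, pow_succ', mul_assoc]; rfl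
  have hlq : l ^ q ^ r = 1 := by
    rw [hl, ← Units.val_pow_eq_pow_val, hu, Units.val_one]
  have hψ : Cen.autOf φ hinv ^ q ^ r = 1 := by
    refine MulEquiv.ext fun x => ?_
    rw [Cen.autOf_pow, MulAut.one_apply, hpowφ, hlq, one_mul]
  let act₀ := powHom (Cen.autOf φ hinv) hψ
  let X := Cen β ⋊[act₀] Multiplicative (ZMod (q ^ r))
  haveI : Finite X := Finite.of_equiv _ SemidirectProduct.equivProd.symm
  have hact : ∀ (i : Multiplicative (ZMod (q ^ r))) (x : Cen β),
      act₀ i x = ⟨l ^ (Multiplicative.toAdd i).val * x.fst, x.snd⟩ := fun i x => by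
    show (powHom _ hψ i) x = _
    rw [powHom_apply, Cen.autOf_pow, hpowφ]
  let π : X →* Frame u hu := SemidirectProduct.map (Cen.fstHom β) (MonoidHom.id _) (fun i => by
    ext x
    show Multiplicative.toAdd (Cen.fstHom β (act₀ i x)) = _
    rw [hact]
    simp [Cen.fstHom, toAdd_act, hl])
  have hπl : ∀ x : X, Multiplicative.toAdd (π x).left = x.left.fst := fun x => rfl
  have hπr : ∀ x : X, (π x).right = x.right := fun x => rfl
  have hsurj : Function.Surjective π := by
    intro w
    refine ⟨⟨⟨Multiplicative.toAdd w.left, 0⟩, w.right⟩, ?_⟩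
    exact SemidirectProduct.ext rfl rfl
  have hkerMem : ∀ x : X, x ∈ π.ker ↔ x.left.fst = 0 ∧ x.right = 1 := by
    intro x
    rw [MonoidHom.mem_ker, SemidirectProduct.ext_iff, hπr]
    simp only [SemidirectProduct.one_left, SemidirectProduct.one_right]
    rw [← hπl x]
    exact and_congr (Multiplicative.toAdd.injective.eq_iff' toAdd_one).symm Iff.rfl
  have hcen : π.ker ≤ Subgroup.center X := by
    intro x hx
    obtain ⟨h1, h2⟩ := (hkerMem x).1 hx
    rw [Subgroup.mem_center_iff]
    intro y
    refine SemidirectProduct.ext ?_ ?_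
    · rw [SemidirectProduct.mul_left, SemidirectProduct.mul_left, h2, map_one, MulAut.one_apply,
        hact]
      refine Cen.ext ?_ ?_
      · simp [h1]
      · simp [h1, add_comm]
    · rw [SemidirectProduct.mul_right, SemidirectProduct.mul_right, h2, one_mul, mul_one]
  refine ⟨X, inferInstance, inferInstance, π, hsurj, hcen, ?_, ?_, ?_⟩
  · intro x
    refine ⟨1, Subtype.ext ?_⟩
    obtain ⟨h1, h2⟩ := (hkerMem x).1 x.2
    have hxl : (x : X) = SemidirectProduct.inl (x : X).left := by
      refine SemidirectProduct.ext ?_ ?_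
      · simp
      · simp [h2]
    have hpow : ∀ k : ℕ, (x : X).left ^ k = ⟨0, k • (x : X).left.snd⟩ := by
      intro k
      induction k with
      | zero => ext <;> simp
      | succ k ih =>
        rw [pow_succ, ih]
        refine Cen.ext ?_ ?_
        · simp [h1]
        · simp only [Cen.mul_snd, map_zero, AddMonoidHom.zero_apply, add_zero, succ_nsmul]
    rw [pow_one, Subgroup.coe_pow, Subgroup.coe_one, hxl, ← map_pow, hpow]
    have hz : p • (x : X).left.snd = 0 := Subtype.ext (by
      rw [AddSubmonoidClass.coe_nsmul, nsmul_eq_mul, CharP.cast_eq_zero, zero_mul,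
        AddSubgroup.coe_zero])
    rw [hz]
    exact map_one _
  · intro H hH
    have hlift : ∀ v : F, ∃ y ∈ H, y.left.fst = v ∧ y.right = 1 := by
      intro v
      have h : (SemidirectProduct.inl (Multiplicative.ofAdd v) : Frame u hu) ∈ H.map π :=
        hH ▸ Subgroup.mem_top _
      obtain ⟨y, hy, hyv⟩ := h
      refine ⟨y, hy, ?_, ?_⟩
      · rw [← hπl, hyv]; rfl
      · rw [← hπr, hyv]; rfl
    have hcomm : ∀ t : F, SemidirectProduct.inl
        (⟨0, ⟨τ t, t, rfl⟩⟩ : Cen β) ∈ H := by
      intro t
      have hne : l - l⁻¹ ≠ 0 := sub_ne_zero.2 (D.inv_ne (by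
        have := D.a_pos; omega)).symm
      obtain ⟨x, hxH, hx1, hx2⟩ := hlift (t / (l - l⁻¹))
      obtain ⟨y, hyH, hy1, hy2⟩ := hlift 1
      have h := mul_mem (mul_mem (mul_mem hxH hyH) (inv_mem hxH)) (inv_mem hyH)
      have heq : x * y * x⁻¹ * y⁻¹ =
          SemidirectProduct.inl (x.left * y.left * x.left⁻¹ * y.left⁻¹) := by
        refine SemidirectProduct.ext ?_ ?_
        · rw [SemidirectProduct.mul_left, SemidirectProduct.mul_left, SemidirectProduct.mul_left,
            SemidirectProduct.mul_right, SemidirectProduct.mul_right, SemidirectProduct.inv_left,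
            SemidirectProduct.inv_left, SemidirectProduct.inv_right, SemidirectProduct.left_inl, hx2,
            hy2]
          simp only [mul_one, inv_one, map_one, MulAut.one_apply]
          rw [SemidirectProduct.mul_right, hx2, hy2]
          simp only [mul_one, map_one, MulAut.one_apply]
        · rw [SemidirectProduct.mul_right, SemidirectProduct.mul_right, SemidirectProduct.mul_right,
            SemidirectProduct.inv_right, SemidirectProduct.inv_right, SemidirectProduct.right_inl,
            hx2, hy2]
          simp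
      rw [heq] at h
      convert h using 2
      refine Cen.ext ?_ ?_
      · simp
      · simp only [Cen.mul_snd, Cen.mul_fst, Cen.inv_fst, Cen.inv_snd, map_add, map_neg,
          AddMonoidHom.add_apply, AddMonoidHom.neg_apply, hx1, hy1]
        ext
        simp only [AddSubgroup.coe_add, AddSubgroup.coe_neg, hβa, one_pow, mul_one]
        set s := p ^ (a / 2)
        set X' := t / (l - l⁻¹) with hX'
        have hswap : τ (l * X' ^ s) = τ (l⁻¹ * X') := by
          rw [hτ, tau_apply, tau_apply, mul_pow, mul_pow, D.pow_half he, D.pow_half_twice he,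
            inv_pow, D.pow_half he, inv_inv]
          ring
        have ht : t = l * X' - l⁻¹ * X' := by
          rw [← sub_mul, hX', mul_div_cancel₀ t hne]
        have hτt : τ t = τ (l * X') - τ (l⁻¹ * X') := by
          rw [← map_sub, ← ht]
        rw [hτt, ← hswap]
        abel
    rw [eq_top_iff]
    intro x _
    have hx : π x ∈ H.map π := hH ▸ Subgroup.mem_top _
    obtain ⟨y, hy, hyx⟩ := hx
    have hk : y⁻¹ * x ∈ π.ker := by
      rw [MonoidHom.mem_ker, map_mul, map_inv, hyx, inv_mul_cancel]
    obtain ⟨h1, h2⟩ := (hkerMem _).1 hk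
    obtain ⟨t, ht⟩ := (y⁻¹ * x).left.snd.2
    have hmem : y⁻¹ * x ∈ H := by
      have := hcomm t
      convert this using 1
      refine SemidirectProduct.ext ?_ ?_
      · rw [SemidirectProduct.left_inl]
        exact Cen.ext h1 (Subtype.ext ht.symm)
      · rw [SemidirectProduct.right_inl, h2]
    simpa using mul_mem hy hmem
  · rw [if_neg hodd, SemidirectProduct.card, Nat.card_congr Cen.equivProd, Nat.card_prod, D.card,
      (D.card_tau_range he D.a_pos).1, Nat.card_congr (Multiplicative.toAdd (α := ZMod (q ^ r))),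
      Nat.card_zmod, ← pow_add]
    congr 2
    omega

end FieldData

end Cfsg.Agent.Lib.SchmidtUniv
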