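import Cfsg.Agent.Lib.PGroup.Frattini

/-!
The fixed points of an automorphism of prime order fixing all invariant proper subgroups of a
`p`-group pointwise.
-/

set_option autoImplicit false

namespace Cfsg.Agent.Lib.SchmidtUniv

open Subgroup
open scoped commutatorElement

variable {P : Type*} [Group P] [Finite P] {p : ℕ} [Fact p.Prime]

/-- The fixed points of an automorphism. -/
def fixedSubgroup (α : MulAut P) : Subgroup P where
  carrier := {x | α x = x}
  one_mem' := map_one α
  mul_mem' := fun {x y} (hx : α x = x) (hy : α y = y) => by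
    show α (x * y) = x * y
    rw [map_mul, hx, hy]
  inv_mem' := fun {x} (hx : α x = x) => by
    show α x⁻¹ = x⁻¹
    rw [map_inv, hx]

omit [Finite P] in
theorem mem_fixedSubgroup {α : MulAut P} {x : P} : x ∈ fixedSubgroup α ↔ α x = x := Iff.rfl

theorem fixed_properties (hP : IsPGroup p P) {q : ℕ} (hq : q.Prime) (hpq : p ≠ q) (α : MulAut P)
    (hαq : α ^ q = 1) (hα1 : α ≠ 1)
    (hfix : ∀ M : Subgroup P, M ≠ ⊤ → (∀ x ∈ M, α x ∈ M) → ∀ x ∈ M, α x = x) :
    fixedSubgroup α ≤ center P ∧ fixedSubgroup α ≠ ⊤ ∧ commutator P = fixedSubgroup α ∧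
    (∀ x : P, x ^ p ∈ fixedSubgroup α) ∧ (∀ z ∈ fixedSubgroup α, z ^ p = 1) ∧
    (∀ x : P, x⁻¹ * α x ∈ fixedSubgroup α → x ∈ fixedSubgroup α) ∧
    (∀ M : Subgroup P, fixedSubgroup α ≤ M → (∀ x ∈ M, α x ∈ M) →
      M = fixedSubgroup α ∨ M = ⊤) := by
  have hqone : ∀ d : P, d ^ q = 1 → d = 1 := by
    intro d hd
    obtain ⟨k, hk⟩ := hP d
    exact orderOf_eq_one_iff.mp (Nat.eq_one_of_dvd_coprimes
      ((((Nat.coprime_primes Fact.out hq).2 hpq).pow k 1))
      (orderOf_dvd_of_pow_eq_one hk) (by simpa using orderOf_dvd_of_pow_eq_one hd))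
  have hne : fixedSubgroup α ≠ ⊤ := fun e => hα1 (MulEquiv.ext fun x =>
    mem_fixedSubgroup.1 (e ▸ mem_top x))
  haveI : Nontrivial P := by
    by_contra hc
    rw [not_nontrivial_iff_subsingleton] at hc
    exact hne (Subgroup.ext fun x => ⟨fun _ => trivial, fun _ => Subsingleton.elim _ _⟩)
  haveI : Group.IsNilpotent P := hP.isNilpotent
  obtain ⟨M₀, hM₀⟩ : ∃ M : Subgroup P, IsCoatom M :=
    (eq_top_or_exists_le_coatom ⊥).resolve_left bot_ne_top |>.imp fun _ h => h.1
  have hFtop : frattini P ≠ ⊤ := fun e => hM₀.1 (top_le_iff.mp (e ▸ frattini_le_coatom hM₀))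
  have hFfix : frattini P ≤ fixedSubgroup α := fun x hx => hfix _ hFtop (fun x hx =>
    (characteristic_iff_comap_eq.mp frattini_characteristic α).ge hx) x hx
  have hcle : commutator P ≤ fixedSubgroup α := fun x hx =>
    hFfix (PFrattini.commutator_le_frattini hP hx)
  have hfree : ∀ x : P, x⁻¹ * α x ∈ fixedSubgroup α → x ∈ fixedSubgroup α := by
    intro x hx
    have hn : ∀ n : ℕ, (α ^ n) x = x * (x⁻¹ * α x) ^ n := by
      intro n
      induction n with
      | zero => simp
      | succ n ih =>
        rw [pow_succ', MulAut.mul_apply, ih, map_mul, map_pow, mem_fixedSubgroup.1 hx, pow_succ',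
          ← mul_assoc x, mul_inv_cancel_left]
    have h1 := hn q
    rw [hαq] at h1
    have h2 := hqone _ (mul_left_cancel (a := x) (by simpa using h1.symm))
    exact mem_fixedSubgroup.2 (inv_mul_eq_one.1 h2).symm
  have hD : closure (Set.range fun u => u⁻¹ * α u) = ⊤ := by
    by_contra hD
    have hDinv : ∀ x ∈ closure (Set.range fun u => u⁻¹ * α u),
        α x ∈ closure (Set.range fun u => u⁻¹ * α u) := by
      intro x hx
      induction hx using closure_induction with
      | mem x hx =>
        obtain ⟨u, rfl⟩ := hx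
        exact subset_closure ⟨α u, by simp⟩
      | one => simp
      | mul x y _ _ hx hy => rw [map_mul]; exact mul_mem hx hy
      | inv x _ hx => rw [map_inv]; exact inv_mem hx
    exact hne (eq_top_iff.2 fun u _ => hfree u (hfix _ hD hDinv _ (subset_closure ⟨u, rfl⟩)))
  have hcen : fixedSubgroup α ≤ center P := by
    intro c hc
    rw [mem_center_iff]
    intro g
    have hle : closure (Set.range fun u => u⁻¹ * α u) ≤ centralizer {c} := by
      refine closure_le _ |>.mpr ?_
      rintro _ ⟨u, rfl⟩
      have h1 : α ⁅c, u⁆ = ⁅c, u⁆ :=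
        hcle (commutator_mem_commutator (mem_top c) (mem_top u))
      rw [map_commutatorElement, mem_fixedSubgroup.1 hc, commutatorElement_def,
        commutatorElement_def] at h1
      rw [SetLike.mem_coe, mem_centralizer_singleton_iff]
      have h2 : α u * c⁻¹ * (α u)⁻¹ = u * c⁻¹ * u⁻¹ := by
        rwa [mul_assoc c, mul_assoc c, mul_assoc c, mul_assoc c, mul_right_inj] at h1
      calc u⁻¹ * α u * c = u⁻¹ * (α u * c⁻¹ * (α u)⁻¹)⁻¹ * α u := by group
        _ = c * (u⁻¹ * α u) := by rw [h2]; group
    exact mem_centralizer_singleton_iff.mp (hle (hD ▸ mem_top g))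
  have hpow : ∀ x : P, x ^ p ∈ fixedSubgroup α := fun x => hFfix (PFrattini.pow_mem_frattini hP x)
  have hKc : fixedSubgroup α ≤ commutator P := by
    let δ : P →* Abelianization P :=
      { toFun := fun u => Abelianization.of (u⁻¹ * α u)
        map_one' := by simp
        map_mul' := fun u v => by
          simp only [map_mul, map_inv, mul_inv_rev]
          simp [mul_assoc, mul_comm, mul_left_comm] }
    have hsur : Function.Surjective δ := by
      rw [← MonoidHom.range_eq_top, eq_top_iff]
      have : (⊤ : Subgroup (Abelianization P)) = (⊤ : Subgroup P).map Abelianization.of :=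
        (map_top_of_surjective _ (QuotientGroup.mk_surjective)).symm
      rw [this, ← hD, MonoidHom.map_closure, closure_le]
      rintro _ ⟨_, ⟨u, rfl⟩, rfl⟩
      exact ⟨u, rfl⟩
    have hker : commutator P ≤ δ.ker := Abelianization.commutator_subset_ker δ
    let δ' : P ⧸ commutator P →* Abelianization P := QuotientGroup.lift _ δ hker
    have hsur' : Function.Surjective δ' := fun y =>
      (hsur y).elim fun x hx => ⟨(x : P ⧸ commutator P), hx⟩
    have hinj : Function.Injective δ' := (hsur'.bijective_of_nat_card_le (le_refl _)).1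
    intro z hz
    refine (QuotientGroup.eq_one_iff z).mp (hinj (?_ : δ' _ = δ' 1))
    rw [map_one]
    show Abelianization.of (z⁻¹ * α z) = 1
    rw [mem_fixedSubgroup.1 hz, inv_mul_cancel, map_one]
  have hexp : ∀ z ∈ fixedSubgroup α, z ^ p = 1 := by
    intro z hz
    have hz' : z ∈ closure (commutatorSet P) := by
      rw [← commutator_eq_closure]; exact hKc hz
    clear hz
    induction hz' using closure_induction with
    | mem z hz =>
      obtain ⟨a, b, rfl⟩ := hz
      have hcab : ∀ n : ℕ, ⁅a, b ^ n⁆ = ⁅a, b⁆ ^ n := by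
        intro n
        induction n with
        | zero => simp
        | succ n ih =>
          have h1 := mem_center_iff.mp
            (hcen (hcle (commutator_mem_commutator (mem_top a) (mem_top b)))) (b ^ n)
          rw [pow_succ b, commutatorElement_mul_right_eq_mul_conj, ih, mul_assoc _ (b ^ n), h1,
            pow_succ]
          group
      rw [← hcab, commutatorElement_eq_one_iff_mul_comm]
      exact mem_center_iff.mp (hcen (hpow b)) a
    | one => exact one_pow p
    | mul x y hx hy hxp hyp =>
      have hxy : Commute x y := (mem_center_iff.mp (hcen (hcle (by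
        rw [commutator_eq_closure]; exact hx))) y).symm
      rw [hxy.mul_pow, hxp, hyp, one_mul]
    | inv x _ hxp => rw [inv_pow, hxp, inv_one]
  refine ⟨hcen, hne, le_antisymm hcle hKc, hpow, hexp, hfree, fun M hKM hM => ?_⟩
  rcases eq_or_ne M ⊤ with h | h
  · exact Or.inr h
  · exact Or.inl (le_antisymm (fun x hx => hfix M h hM x hx) hKM)

end Cfsg.Agent.Lib.SchmidtUniv
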