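import Cfsg.Agent.Lib.SchmidtUniv.Bilin

/-!
An irreducible fixed-point-free endomorphism of prime order is multiplication by an element of
the same order in the field of order `p ^ a`.
-/

set_option autoImplicit false

namespace Cfsg.Agent.Lib.SchmidtUniv

open Polynomial

variable {p q a : ℕ} [Fact p.Prime] [Fact q.Prime] {F : Type} [Field F] [Finite F]
  [Algebra (ZMod p) F] {l : F}

namespace FieldData

theorem of_order (D : FieldData p q a F l) {ζ : F} (hζ : orderOf ζ = q) :
    FieldData p q a F ζ := ⟨hζ, D.card, D.exp⟩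

/-- The classification of irreducible operators of order `q`. -/
theorem exists_linear (D : FieldData p q a F l) {V : Type*} [AddCommGroup V] [Module (ZMod p) V]
    [Finite V] (T : Module.End (ZMod p) V) (hTq : T ^ q = 1) (hfree : ∀ v, T v = v → v = 0)
    (hV : ∃ v : V, v ≠ 0)
    (hirr : ∀ S : AddSubgroup V, (∀ v ∈ S, T v ∈ S) → S = ⊥ ∨ S = ⊤) :
    ∃ (ζ : F) (L : F ≃+ V), orderOf ζ = q ∧ ∀ x, L (ζ * x) = T (L x) := by
  classical
  obtain ⟨v₀, hv₀⟩ := hV
  haveI : Nontrivial V := ⟨⟨v₀, 0, hv₀⟩⟩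
  set m := minpoly (ZMod p) T with hm
  have hint : IsIntegral (ZMod p) T := Algebra.IsIntegral.isIntegral T
  obtain ⟨g, hgm, hgi, hgd⟩ := exists_monic_irreducible_factor m (minpoly.not_isUnit (ZMod p) T)
  obtain ⟨h, hh⟩ := hgd
  have hm0 : m ≠ 0 := minpoly.ne_zero hint
  have hh0 : h ≠ 0 := fun e => hm0 (by rw [hh, e, mul_zero])
  have hhT : aeval T h ≠ 0 := by
    intro e
    have hle := minpoly.degree_le_of_ne_zero (ZMod p) T hh0 e
    rw [← hm, hh, degree_mul] at hle
    have hpos : 0 < g.natDegree := hgi.natDegree_pos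
    rw [degree_eq_natDegree hgm.ne_zero, degree_eq_natDegree hh0, ← Nat.cast_add,
      Nat.cast_le] at hle
    omega
  have hgT : aeval T g = 0 := by
    obtain ⟨v, hv⟩ : ∃ v, aeval T h v ≠ 0 := by
      by_contra hc
      push Not at hc
      exact hhT (LinearMap.ext hc)
    let S : AddSubgroup V := (LinearMap.ker (aeval T g)).toAddSubgroup
    have hS : ∀ w ∈ S, T w ∈ S := by
      intro w hw
      show T w ∈ LinearMap.ker (aeval T g)
      rw [LinearMap.mem_ker, ← Module.End.mul_apply]
      have : aeval T g * T = T * aeval T g := by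
        simpa using congrArg (aeval T) (mul_comm g X)
      rw [this, Module.End.mul_apply, LinearMap.mem_ker.1 hw, map_zero]
    rcases hirr S hS with hb | ht
    · exfalso
      have h1 : aeval T h v ∈ S := by
        show _ ∈ LinearMap.ker (aeval T g)
        rw [LinearMap.mem_ker, ← Module.End.mul_apply, ← map_mul, ← hh, minpoly.aeval,
          LinearMap.zero_apply]
      rw [hb, AddSubgroup.mem_bot] at h1
      exact hv h1
    · exact LinearMap.ext fun w => LinearMap.mem_ker.1 (show w ∈ S from ht ▸ AddSubgroup.mem_top w)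
  -- a root of `g` in `F`
  have hprim : IsPrimitiveRoot l q := D.order ▸ IsPrimitiveRoot.orderOf l
  have hgdvd : g ∣ X ^ q - 1 :=
    (Dvd.intro h hh.symm).trans (minpoly.dvd (ZMod p) T (by simp [hTq]))
  have hsplit : (g.map (algebraMap (ZMod p) F)).Splits := by
    refine Splits.of_dvd (X_pow_sub_one_splits hprim) ?_ ?_
    · exact (monic_X_pow_sub_C (1 : F) (Fact.out : q.Prime).ne_zero).ne_zero
    · simpa using Polynomial.map_dvd (algebraMap (ZMod p) F) hgdvd
  obtain ⟨ζ, hζ⟩ := hsplit.exists_eval_eq_zero (by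
    rw [degree_map]; exact (degree_pos_of_irreducible hgi).ne')
  have hgζ : aeval ζ g = 0 := by rwa [aeval_def, ← eval_map]
  have hgmin : g = minpoly (ZMod p) ζ := minpoly.eq_of_irreducible_of_monic hgi hgζ hgm
  have hζ1 : ζ ≠ 1 := by
    intro e
    have hg1 : g = X - C (1 : ZMod p) := by
      rw [hgmin, e, ← map_one (algebraMap (ZMod p) F), minpoly.eq_X_sub_C]
    rw [hg1, map_sub, aeval_X, aeval_C, map_one, sub_eq_zero] at hgT
    exact hv₀ (hfree v₀ (by rw [hgT]; rfl))
  have hζq : ζ ^ q = 1 := by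
    obtain ⟨e, he⟩ := hgdvd
    have := congrArg (aeval ζ) he
    rw [map_mul, hgζ, zero_mul, map_sub, map_pow, aeval_X, map_one, sub_eq_zero] at this
    exact this
  have hord : orderOf ζ = q := orderOf_eq_prime hζq hζ1
  have D' := D.of_order hord
  -- evaluation at `v₀`
  choose poly hpoly using D'.exists_aeval_eq
  have hwd : ∀ f₁ f₂ : (ZMod p)[X], aeval ζ f₁ = aeval ζ f₂ → aeval T f₁ = aeval T f₂ := by
    intro f₁ f₂ he
    obtain ⟨e, he'⟩ : g ∣ f₁ - f₂ := by
      rw [hgmin]; exact minpoly.dvd _ _ (by rw [map_sub, he, sub_self])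
    rw [← sub_eq_zero, ← map_sub, he', map_mul, hgT, zero_mul]
  let L₀ : F →+ V := AddMonoidHom.mk' (fun x => aeval T (poly x) v₀) (fun x y => by
    rw [← LinearMap.add_apply, ← map_add, hwd (poly (x + y)) (poly x + poly y) (by
      rw [map_add, hpoly, hpoly, hpoly])])
  have hL₀ : ∀ f, L₀ (aeval ζ f) = aeval T f v₀ := fun f => by
    show aeval T (poly _) v₀ = _
    rw [hwd _ f (hpoly _)]
  have hmulζ : ∀ x, L₀ (ζ * x) = T (L₀ x) := by
    intro x
    have : ζ * x = aeval ζ (X * poly x) := by rw [map_mul, aeval_X, hpoly]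
    rw [this, hL₀, map_mul, aeval_X, Module.End.mul_apply]
    rfl
  have hinj : Function.Injective L₀ := by
    rw [injective_iff_map_eq_zero]
    intro x hx
    by_contra hx0
    apply hv₀
    have h1 : aeval ζ (poly x⁻¹ * poly x) = aeval ζ (1 : (ZMod p)[X]) := by
      rw [map_mul, hpoly, hpoly, inv_mul_cancel₀ hx0, map_one]
    have h2 := congrArg (fun A : Module.End (ZMod p) V => A v₀) (hwd _ _ h1)
    simp only [map_mul, map_one, Module.End.mul_apply, Module.End.one_apply] at h2
    rw [← h2, show aeval T (poly x) v₀ = 0 from hx, map_zero]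
  have hsurj : Function.Surjective L₀ := by
    rw [← AddMonoidHom.range_eq_top]
    refine (hirr L₀.range ?_).resolve_left ?_
    · rintro _ ⟨x, rfl⟩
      exact ⟨ζ * x, hmulζ x⟩
    · intro hb
      have h1 : L₀ 1 ∈ L₀.range := ⟨1, rfl⟩
      rw [hb, AddSubgroup.mem_bot, ← map_zero L₀] at h1
      exact one_ne_zero (hinj h1)
  exact ⟨ζ, AddEquiv.ofBijective L₀ ⟨hinj, hsurj⟩, hord, hmulζ⟩

end FieldData

end Cfsg.Agent.Lib.SchmidtUniv
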