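import Cfsg.Agent.Lib.SchmidtUniv.Linear

/-!
The multiplicative form of `FieldData.exists_linear`.
-/

set_option autoImplicit false

namespace Cfsg.Agent.Lib.SchmidtUniv

variable {p q a : ℕ} [Fact p.Prime] [Fact q.Prime] {F : Type} [Field F] [Finite F]
  [Algebra (ZMod p) F] {l : F}

theorem FieldData.exists_group_iso (D : FieldData p q a F l) {Q : Type*} [CommGroup Q] [Finite Q]
    (hexp : ∀ x : Q, x ^ p = 1) (f : Q →* Q) (hfq : ∀ x, (⇑f)^[q] x = x)
    (hfree : ∀ x, f x = x → x = 1) (hne : ∃ x : Q, x ≠ 1)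
    (hirr : ∀ S : Subgroup Q, (∀ x ∈ S, f x ∈ S) → S = ⊥ ∨ S = ⊤) :
    ∃ (ζ : F) (e : Q ≃* Multiplicative F), orderOf ζ = q ∧
      ∀ x, Multiplicative.toAdd (e (f x)) = ζ * Multiplicative.toAdd (e x) := by
  have hnsmul : ∀ v : Additive Q, p • v = 0 := fun v => by
    apply Additive.toMul.injective
    rw [toMul_nsmul, toMul_zero]
    exact hexp _
  letI : Module (ZMod p) (Additive Q) := AddCommGroup.zmodModule (n := p) hnsmul
  let T : Module.End (ZMod p) (Additive Q) := (MonoidHom.toAdditive f).toZModLinearMap p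
  have hTa : ∀ x : Q, T (Additive.ofMul x) = Additive.ofMul (f x) := fun x => rfl
  have hTq : T ^ q = 1 := by
    refine LinearMap.ext fun v => ?_
    rw [Module.End.pow_apply]
    exact congrArg Additive.ofMul (hfq (Additive.toMul v))
  obtain ⟨x₀, hx₀⟩ := hne
  obtain ⟨ζ, L, hζ, hL⟩ := D.exists_linear T hTq
    (fun v hv => congrArg Additive.ofMul (hfree (Additive.toMul v) (congrArg Additive.toMul hv)))
    ⟨Additive.ofMul x₀, fun h => hx₀ (congrArg Additive.toMul h)⟩
    (fun S hS => by
      rcases hirr (AddSubgroup.toSubgroup' S) (fun x hx => hS _ hx) with h | h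
      · refine Or.inl (eq_bot_iff.2 fun v hv => ?_)
        have hv' : Additive.toMul v ∈ AddSubgroup.toSubgroup' S := hv
        rw [h, Subgroup.mem_bot] at hv'
        exact congrArg Additive.ofMul hv'
      · refine Or.inr (eq_top_iff.2 fun v _ => ?_)
        exact (show Additive.toMul v ∈ AddSubgroup.toSubgroup' S from h ▸ Subgroup.mem_top _))
  let e : Q ≃* Multiplicative F :=
    { toFun := fun x => Multiplicative.ofAdd (L.symm (Additive.ofMul x))
      invFun := fun w => Additive.toMul (L (Multiplicative.toAdd w))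
      left_inv := fun x => by simp
      right_inv := fun w => by simp
      map_mul' := fun x y => by rw [ofMul_mul, map_add, ofAdd_add] }
  refine ⟨ζ, e, hζ, fun x => ?_⟩
  show L.symm (Additive.ofMul (f x)) = ζ * L.symm (Additive.ofMul x)
  apply L.injective
  rw [hL, L.apply_symm_apply, L.apply_symm_apply, hTa]

end Cfsg.Agent.Lib.SchmidtUniv
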