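import Cfsg.Agent.Lib.SchmidtUniv.Bilin
import Cfsg.Agent.Lib.Transfer.Hall
import Cfsg.Agent.Lib.Transfer.ThompsonReduction

/-!
The group `F ⋊ ℤ/q^r`, the generator acting by multiplication with an element of order `q`, and
its central extension with kernel of order `p ^ (a / 2)` for even `a`.
-/

set_option autoImplicit false

namespace Cfsg.Agent.Lib.SchmidtUniv

/-- The homomorphism from `ℤ/n` sending the generator to `m`. -/
def powHom {M : Type*} [Monoid M] {n : ℕ} [NeZero n] (m : M) (h : m ^ n = 1) :
    Multiplicative (ZMod n) →* M where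
  toFun i := m ^ (Multiplicative.toAdd i).val
  map_one' := by simp
  map_mul' i j := by
    simp only [toAdd_mul]
    rw [← pow_add, ZMod.val_add, ← pow_eq_pow_mod _ h]

theorem powHom_apply {M : Type*} [Monoid M] {n : ℕ} [NeZero n] (m : M) (h : m ^ n = 1)
    (i : Multiplicative (ZMod n)) : powHom m h i = m ^ (Multiplicative.toAdd i).val := rfl

/-- A minimal non-`p`-nilpotent group. -/
def IsMNP (p : ℕ) (X : Type*) [Group X] : Prop :=
  ¬ Cfsg.HasNormalPComplement p X ∧ ∀ K : Subgroup X, K ≠ ⊤ → Cfsg.HasNormalPComplement p ↥K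

theorem IsMNP.of_equiv {p : ℕ} [Fact p.Prime] {X Y : Type*} [Group X] [Group Y] [Finite X]
    [Finite Y] (h : IsMNP p X) (e : X ≃* Y) : IsMNP p Y := by
  refine ⟨fun hY => h.1 ?_, fun K hK => ?_⟩
  · exact Transfer.hasNormalPComplement_of_surjective e.symm.toMonoidHom e.symm.surjective hY
  · have h' := h.2 (K.comap e.toMonoidHom) fun ht => hK (by
      rw [← Subgroup.map_comap_eq_self_of_surjective (f := e.toMonoidHom) e.surjective K, ht,
        Subgroup.map_top_of_surjective _ e.surjective])
    have h'' := Transfer.hasNormalPComplement_map e.toMonoidHom h'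
    rwa [Subgroup.map_comap_eq_self_of_surjective (f := e.toMonoidHom) e.surjective K] at h''

/-- Multiplication by units as automorphisms of the additive group. -/
def unitAut (F : Type) [Field F] : Fˣ →* MulAut (Multiplicative F) where
  toFun u :=
    { toFun := fun x => Multiplicative.ofAdd ((u : F) * Multiplicative.toAdd x)
      invFun := fun x => Multiplicative.ofAdd (((u⁻¹ : Fˣ) : F) * Multiplicative.toAdd x)
      left_inv := fun x => by simp
      right_inv := fun x => by simp
      map_mul' := fun x y => by simp [mul_add] }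
  map_one' := by ext x; simp
  map_mul' u v := by ext x; simp [mul_assoc]

@[simp] theorem toAdd_unitAut {F : Type} [Field F] (u : Fˣ) (x : Multiplicative F) :
    Multiplicative.toAdd (unitAut F u x) = (u : F) * Multiplicative.toAdd x := rfl

section Frame

variable {F : Type} [Field F] {n : ℕ} [NeZero n] (u : Fˣ) (hu : u ^ n = 1)

/-- The action on the additive group. -/
def act : Multiplicative (ZMod n) →* MulAut (Multiplicative F) :=
  (unitAut F).comp (powHom u hu)

theorem toAdd_act (i : Multiplicative (ZMod n)) (x : Multiplicative F) :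
    Multiplicative.toAdd (act u hu i x) = (u : F) ^ (Multiplicative.toAdd i).val *
      Multiplicative.toAdd x := by
  simp [act, powHom_apply, ← map_pow]

/-- The frame group. -/
abbrev Frame := Multiplicative F ⋊[act u hu] Multiplicative (ZMod n)

end Frame

namespace FieldData

variable {p q a r : ℕ} [Fact p.Prime] [Fact q.Prime] {F : Type} [Field F] [Finite F]
  [Algebra (ZMod p) F] {u : Fˣ} (D : FieldData p q a F (u : F)) (hr : 1 ≤ r)
include D hr

omit [Algebra (ZMod p) F] [Finite F] [Fact p.Prime] in
theorem unit_pow : u ^ q ^ r = 1 := by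
  obtain ⟨m, hm⟩ : q ∣ q ^ r := dvd_pow_self q (by omega)
  refine Units.ext ?_
  rw [Units.val_pow_eq_pow_val, hm, pow_mul, D.pow_q, one_pow, Units.val_one]

variable (hu : u ^ q ^ r = 1)

omit D hr [Algebra (ZMod p) F] [Fact p.Prime] in
theorem finite_frame : Finite (Frame u hu) :=
  Finite.of_equiv _ SemidirectProduct.equivProd.symm

omit [Algebra (ZMod p) F] [Fact p.Prime] hr in
theorem card_frame : Nat.card (Frame u hu) = p ^ a * q ^ r := by
  rw [SemidirectProduct.card, Nat.card_congr (Multiplicative.toAdd (α := F)),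
    Nat.card_congr (Multiplicative.toAdd (α := ZMod (q ^ r))), D.card, Nat.card_zmod]

omit [Algebra (ZMod p) F] [Finite F] [Fact p.Prime] hr in
/-- The element acts trivially exactly when `q` divides the exponent. -/
theorem pow_eq_one_iff (k : ℕ) : (u : F) ^ k = 1 ↔ q ∣ k := by
  rw [← orderOf_dvd_iff_pow_eq_one, D.order]

theorem commute_of_lt_top {H : Subgroup (Frame u hu)} (hH : H ≠ ⊤) :
    ∀ x ∈ H, ∀ y ∈ H, x * y = y * x := by
  by_cases hall : ∀ h ∈ H, q ∣ (Multiplicative.toAdd h.right).val
  · intro x hx y hy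
    have hact : ∀ h ∈ H, ∀ v, act u hu h.right v = v := by
      intro h hh v
      apply Multiplicative.toAdd.injective
      rw [toAdd_act, (D.pow_eq_one_iff (k := _)).2 (hall h hh), one_mul]
    refine SemidirectProduct.ext ?_ ?_
    · rw [SemidirectProduct.mul_left, SemidirectProduct.mul_left, hact x hx, hact y hy, mul_comm]
    · rw [SemidirectProduct.mul_right, SemidirectProduct.mul_right, mul_comm]
  push Not at hall
  obtain ⟨h₀, hh₀, hq₀⟩ := hall
  set k := (Multiplicative.toAdd h₀.right).val with hk
  have hconj : ∀ v : Multiplicative F, h₀ * SemidirectProduct.inl v * h₀⁻¹ =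
      SemidirectProduct.inl (act u hu h₀.right v) := by
    intro v
    refine SemidirectProduct.ext ?_ ?_
    · simp
    · simp
  -- the elements of the normal part in `H`
  let T : AddSubgroup F :=
    { carrier := {x | SemidirectProduct.inl (Multiplicative.ofAdd x) ∈ H}
      zero_mem' := by simp [one_mem]
      add_mem' := fun {x y} hx hy => by
        simpa only [Set.mem_ofPred_eq, ofAdd_add, map_mul] using mul_mem hx hy
      neg_mem' := fun {x} hx => by
        simpa only [Set.mem_ofPred_eq, ofAdd_neg, map_inv] using inv_mem hx }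
  have hTk : ∀ x ∈ T, (u : F) ^ k * x ∈ T := by
    intro x hx
    have h := mul_mem (mul_mem hh₀ (show SemidirectProduct.inl (Multiplicative.ofAdd x) ∈ H from hx))
      (inv_mem hh₀)
    rw [hconj] at h
    show SemidirectProduct.inl _ ∈ H
    convert h using 2
    refine Multiplicative.toAdd.injective ?_
    rw [toAdd_act, toAdd_ofAdd, toAdd_ofAdd]
  by_cases hT : ∀ x ∈ T, x = 0
  · intro x hx y hy
    have hc : x * y * x⁻¹ * y⁻¹ ∈ H :=
      mul_mem (mul_mem (mul_mem hx hy) (inv_mem hx)) (inv_mem hy)
    have hr' : (x * y * x⁻¹ * y⁻¹).right = 1 := by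
      simp [mul_comm x.right y.right]
    set c := x * y * x⁻¹ * y⁻¹ with hcdef
    have hcl : c = SemidirectProduct.inl c.left := by
      refine SemidirectProduct.ext ?_ ?_
      · simp
      · simp [hr']
    have : Multiplicative.toAdd c.left = 0 := hT _ (by
      show SemidirectProduct.inl _ ∈ H
      rw [ofAdd_toAdd, ← hcl]; exact hc)
    have hc1 : c = 1 := by
      rw [hcl, show c.left = 1 from Multiplicative.toAdd.injective (by simpa using this), map_one]
    exact mul_inv_eq_iff_eq_mul.1 (mul_inv_eq_one.1 hc1)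
  exfalso
  push Not at hT
  obtain ⟨x₀, hx₀, hx0⟩ := hT
  -- `l` is a power of `l ^ k`
  obtain ⟨j, hj⟩ : ∃ j : ℕ, ((u : F) ^ k) ^ j = (u : F) := by
    have hco : k.Coprime (orderOf (u : F)) := by
      rw [D.order]; exact ((Fact.out : q.Prime).coprime_iff_not_dvd.2 hq₀).symm
    exact exists_pow_eq_self_of_coprime hco
  have hTl : ∀ n : ℕ, (u : F) ^ n * x₀ ∈ T := by
    intro n
    rw [← hj, ← pow_mul]
    induction j * n with
    | zero => simpa using hx₀
    | succ m ih => rw [pow_succ', mul_assoc]; exact hTk _ ih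
  have hTtop : ∀ x : F, SemidirectProduct.inl (Multiplicative.ofAdd x) ∈ H := by
    intro x
    have h := D.addSubgroup_eq_top (T.comap (AddMonoidHom.mulRight x₀)) hTl
    have h' : x / x₀ ∈ T.comap (AddMonoidHom.mulRight x₀) := h ▸ AddSubgroup.mem_top _
    rw [AddSubgroup.mem_comap] at h'
    have h'' : x / x₀ * x₀ ∈ T := h'
    rw [div_mul_cancel₀ x hx0] at h''
    exact h''
  apply hH
  rw [eq_top_iff]
  intro w _
  have hcop : Nat.Coprime k (q ^ r) :=
    ((Fact.out : q.Prime).coprime_iff_not_dvd.2 hq₀).symm.pow_right r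
  set jz : ZMod (q ^ r) := Multiplicative.toAdd w.right *
    ((ZMod.unitOfCoprime k hcop)⁻¹ : (ZMod (q ^ r))ˣ) with hjz
  have hright : (h₀ ^ jz.val).right = w.right := by
    have hp : (h₀ ^ jz.val).right = h₀.right ^ jz.val :=
      map_pow (SemidirectProduct.rightHom : Frame u hu →* _) h₀ _
    rw [hp]
    apply Multiplicative.toAdd.injective
    rw [toAdd_pow, nsmul_eq_mul, ZMod.natCast_zmod_val,
      show Multiplicative.toAdd h₀.right = ((ZMod.unitOfCoprime k hcop : (ZMod (q ^ r))ˣ) : ZMod (q ^ r))
        by rw [ZMod.coe_unitOfCoprime, hk, ZMod.natCast_zmod_val], hjz, Units.inv_mul_cancel_right]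
  have hw : w = SemidirectProduct.inl (w.left * (h₀ ^ jz.val).left⁻¹) * h₀ ^ jz.val := by
    refine SemidirectProduct.ext ?_ ?_
    · simp
    · simp [hright]
  rw [hw]
  refine mul_mem ?_ (pow_mem hh₀ _)
  have := hTtop (Multiplicative.toAdd (w.left * (h₀ ^ jz.val).left⁻¹))
  rwa [ofAdd_toAdd] at this

theorem not_npc_frame : ¬ Cfsg.HasNormalPComplement p (Frame u hu) := by
  haveI := finite_frame hu
  rintro ⟨S, N, hN, hNS⟩
  have hpq : p ≠ q := by
    intro h
    subst h
    have ha := D.a_pos
    rw [D.exp, ZMod.natCast_self, orderOf_zero] at ha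
    exact lt_irrefl 0 ha
  set e : Frame u hu := SemidirectProduct.inr (Multiplicative.ofAdd (1 : ZMod (q ^ r))) with he
  have heN : e ∈ N := by
    obtain ⟨k, hk⟩ := Transfer.isPGroup_quotient_of_isComplement' S N hNS (QuotientGroup.mk' N e)
    have h1 : e ^ q ^ r = 1 := by
      rw [he, ← map_pow, ← ofAdd_nsmul, nsmul_eq_mul, mul_one, ZMod.natCast_self, ofAdd_zero,
        map_one]
    have h2 : (QuotientGroup.mk' N e) ^ q ^ r = 1 := by rw [← map_pow, h1, map_one]
    exact (QuotientGroup.eq_one_iff e).1 (orderOf_eq_one_iff.1 (Nat.eq_one_of_dvd_coprimes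
      (((Nat.coprime_primes Fact.out Fact.out).2 hpq).pow k r) (orderOf_dvd_of_pow_eq_one hk)
      (orderOf_dvd_of_pow_eq_one h2)))
  set v : Frame u hu := SemidirectProduct.inl (Multiplicative.ofAdd (1 : F)) with hv
  set c := e * v * e⁻¹ * v⁻¹ with hc
  have hcN : c ∈ N := by
    rw [hc, mul_assoc e v, mul_assoc e]
    exact mul_mem heN (hN.conj_mem _ (inv_mem heN) v)
  have hcp : c ^ p = 1 := by
    have hcl : c = SemidirectProduct.inl c.left := by
      refine SemidirectProduct.ext ?_ ?_
      · simp
      · simp [hc, hv, he]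
    haveI : CharP F p := charP_of_injective_algebraMap (RingHom.injective (algebraMap (ZMod p) F)) p
    rw [hcl, ← map_pow, show c.left ^ p = 1 from Multiplicative.toAdd.injective (by
      rw [toAdd_pow, nsmul_eq_mul, CharP.cast_eq_zero, zero_mul, toAdd_one]), map_one]
  have hc1 : c = 1 := orderOf_eq_one_iff.1 (by
    have h1 : orderOf c ∣ Nat.card N := by
      rw [← Subgroup.orderOf_mk c hcN]; exact orderOf_dvd_natCard _
    have h2 := orderOf_dvd_of_pow_eq_one hcp
    rcases (Nat.dvd_prime (Fact.out : p.Prime)).1 h2 with h | h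
    · exact h
    · exact absurd (h ▸ h1) (Transfer.not_dvd_card_of_isComplement' S N hNS))
  have hcomm : e * v * e⁻¹ = v := mul_inv_eq_one.1 hc1
  have h3 : act u hu (Multiplicative.ofAdd (1 : ZMod (q ^ r))) (Multiplicative.ofAdd (1 : F)) =
      Multiplicative.ofAdd (1 : F) := by
    rw [he, hv, ← map_inv, ← SemidirectProduct.inl_aut] at hcomm
    exact SemidirectProduct.inl_injective hcomm
  have h4 := congrArg Multiplicative.toAdd h3
  haveI : Fact (1 < q ^ r) := ⟨Nat.one_lt_pow (by omega) (Fact.out : q.Prime).one_lt⟩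
  rw [toAdd_act, toAdd_ofAdd, toAdd_ofAdd, ZMod.val_one, pow_one, mul_one] at h4
  exact D.ne_one h4

/-- A central cover of the frame without proper subgroups mapping onto it is minimal
non-`p`-nilpotent. -/
theorem isMNP_of_cover {X : Type*} [Group X] [Finite X] (π : X →* Frame u hu)
    (hπ : Function.Surjective π) (hker : π.ker ≤ Subgroup.center X)
    (hmin : ∀ H : Subgroup X, H.map π = ⊤ → H = ⊤) : IsMNP p X := by
  haveI := finite_frame hu
  refine ⟨fun h => D.not_npc_frame hr hu (Transfer.hasNormalPComplement_of_surjective π hπ h),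
    fun H hH => ?_⟩
  have hab := D.commute_of_lt_top hr hu (fun h => hH (hmin H h))
  have hnil : Group.IsNilpotent (H.map π) := by
    refine (Group.isNilpotent_iff _).2 ⟨1, ?_⟩
    rw [Subgroup.upperCentralSeries_one, eq_top_iff]
    intro x _
    rw [Subgroup.mem_center_iff]
    exact fun y => Subtype.ext (hab y y.2 x x.2)
  have hk : (π.subgroupMap H).ker ≤ Subgroup.center H := by
    intro x hx
    rw [Subgroup.mem_center_iff]
    intro y
    have hx' : (x : X) ∈ π.ker := congrArg Subtype.val (MonoidHom.mem_ker.1 hx)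
    exact Subtype.ext (Subgroup.mem_center_iff.1 (hker hx') (y : X))
  haveI : Group.IsNilpotent H := Subgroup.isNilpotent_of_ker_le_center _ hk
  exact Transfer.hasNormalPComplement_of_isNilpotent

end FieldData

end Cfsg.Agent.Lib.SchmidtUniv
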