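import Cfsg.Agent.Lib.SchmidtUniv.Model
import Cfsg.Agent.Lib.SchmidtUniv.Fixed
import Cfsg.Agent.Lib.SchmidtUniv.LinearGroup
import Cfsg.Agent.S0132

/-!
A minimal non-`p`-nilpotent group of order `p^t q^r` is a central extension of the frame with
kernel of order at most `p^(a₀ - a)`.
-/

set_option autoImplicit false

namespace Cfsg.Agent.Lib.SchmidtUniv

open Subgroup
open scoped commutatorElement IsMulCommutative

section Alternating

variable {P : Type*} [Group P] {F : Type} [AddCommGroup F]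

/-- Commutators in a group with central derived subgroup, seen on a quotient. -/
theorem exists_commutator_pairing (K : Subgroup P) (hK : K ≤ center P) (hc : commutator P = K)
    (e : P →* Multiplicative F) (he : Function.Surjective e) (hker : e.ker = K)
    (α : MulAut P) (φ : F → F) (hα : ∀ x, Multiplicative.toAdd (e (α x)) = φ (Multiplicative.toAdd (e x)))
    (hfix : ∀ x ∈ K, α x = x) [IsMulCommutative K] :
    ∃ c : F →+ F →+ Additive K, (∀ x, c x x = 0) ∧ (∀ x y, c (φ x) (φ y) = c x y) ∧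
      AddSubgroup.closure (Set.range fun z : F × F => c z.1 z.2) = ⊤ := by
  classical
  have hmem : ∀ a b : P, ⁅a, b⁆ ∈ K := fun a b =>
    hc ▸ commutator_mem_commutator (mem_top a) (mem_top b)
  set s := Function.surjInv he with hs
  have hes : ∀ x, e (s x) = x := Function.surjInv_eq he
  let c₀ : F → F → Additive K := fun x y => Additive.ofMul
    ⟨⁅s (Multiplicative.ofAdd x), s (Multiplicative.ofAdd y)⁆, hmem _ _⟩
  have hL : ∀ a a' b : P, e a = e a' → ⁅a, b⁆ = ⁅a', b⁆ := by
    intro a a' b h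
    have hk : a'⁻¹ * a ∈ center P := hK (hker ▸ (MonoidHom.mem_ker.2 (by
      rw [map_mul, map_inv, h, inv_mul_cancel])))
    calc ⁅a, b⁆ = a' * ((a'⁻¹ * a) * b * (a'⁻¹ * a)⁻¹) * a'⁻¹ * b⁻¹ := by
          rw [commutatorElement_def]; group
      _ = ⁅a', b⁆ := by
          rw [← mem_center_iff.1 hk b, mul_inv_cancel_right, commutatorElement_def]
  have hwd : ∀ a b : P, c₀ (Multiplicative.toAdd (e a)) (Multiplicative.toAdd (e b)) =
      Additive.ofMul ⟨⁅a, b⁆, hmem _ _⟩ := by
    intro a b
    refine congrArg Additive.ofMul (Subtype.ext ?_)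
    show ⁅s _, s _⁆ = ⁅a, b⁆
    rw [ofAdd_toAdd, ofAdd_toAdd, hL _ a _ (hes _),
      ← inv_inj, commutatorElement_inv, commutatorElement_inv, hL _ b _ (hes _)]
  have hrep : ∀ x : F, ∃ a : P, Multiplicative.toAdd (e a) = x := fun x =>
    ⟨s (Multiplicative.ofAdd x), by rw [hes, toAdd_ofAdd]⟩
  have haddr : ∀ x y z, c₀ x (y + z) = c₀ x y + c₀ x z := by
    intro x y z
    obtain ⟨a, rfl⟩ := hrep x; obtain ⟨b, rfl⟩ := hrep y; obtain ⟨d, rfl⟩ := hrep z
    rw [← toAdd_mul, ← map_mul, hwd, hwd, hwd, ← ofMul_mul]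
    refine congrArg Additive.ofMul (Subtype.ext ?_)
    have h1 := mem_center_iff.1 (hK (hmem a d)) b
    show ⁅a, b * d⁆ = ⁅a, b⁆ * ⁅a, d⁆
    rw [commutatorElement_mul_right_eq_mul_conj, mul_assoc _ b, h1]
    group
  have hanti : ∀ x y, c₀ x y = - c₀ y x := by
    intro x y
    obtain ⟨a, rfl⟩ := hrep x; obtain ⟨b, rfl⟩ := hrep y
    rw [hwd, hwd, ← ofMul_inv]
    refine congrArg Additive.ofMul (Subtype.ext ?_)
    show ⁅a, b⁆ = (⁅b, a⁆ : P)⁻¹
    rw [commutatorElement_inv]
  have haddl : ∀ x y z, c₀ (x + y) z = c₀ x z + c₀ y z := by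
    intro x y z
    rw [hanti, haddr, neg_add, hanti x z, hanti y z]
  let c : F →+ F →+ Additive K := AddMonoidHom.mk'
    (fun x => AddMonoidHom.mk' (c₀ x) (haddr x))
    (fun x y => AddMonoidHom.ext fun z => haddl x y z)
  have hc0 : ∀ x y, c x y = c₀ x y := fun _ _ => rfl
  refine ⟨c, fun x => ?_, fun x y => ?_, ?_⟩
  · obtain ⟨a, rfl⟩ := hrep x
    rw [hc0, hwd]
    exact congrArg Additive.ofMul (Subtype.ext (commutatorElement_self a))
  · obtain ⟨a, rfl⟩ := hrep x; obtain ⟨b, rfl⟩ := hrep y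
    rw [hc0, hc0, ← hα, ← hα, hwd, hwd]
    refine congrArg Additive.ofMul (Subtype.ext ?_)
    show ⁅α a, α b⁆ = ⁅a, b⁆
    rw [← map_commutatorElement, hfix _ (hmem a b)]
  · rw [eq_top_iff]
    intro z _
    have hz : ((Additive.toMul z : K) : P) ∈ closure (commutatorSet P) := by
      rw [← commutator_eq_closure, hc]; exact (Additive.toMul z).2
    have key : ∀ w ∈ closure (commutatorSet P), ∃ hw : w ∈ K, Additive.ofMul (⟨w, hw⟩ : K) ∈
        AddSubgroup.closure (Set.range fun z : F × F => c z.1 z.2) := by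
      intro w hw
      induction hw using closure_induction with
      | mem w hw =>
        obtain ⟨a, b, rfl⟩ := hw
        exact ⟨hmem a b, AddSubgroup.subset_closure
          ⟨(Multiplicative.toAdd (e a), Multiplicative.toAdd (e b)), hwd a b⟩⟩
      | one => exact ⟨one_mem _, zero_mem _⟩
      | mul x y _ _ hx hy =>
        obtain ⟨hx, hx'⟩ := hx
        obtain ⟨hy, hy'⟩ := hy
        exact ⟨mul_mem hx hy, add_mem hx' hy'⟩
      | inv x _ hx =>
        obtain ⟨hx, hx'⟩ := hx
        exact ⟨inv_mem hx, neg_mem hx'⟩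
    exact (key _ hz).2

end Alternating

variable {p q a r t : ℕ} [Fact p.Prime] [Fact q.Prime]

/-- The setup inside a minimal non-`p`-nilpotent group. -/
theorem exists_schmidt_generator {X : Type*} [Group X] [Finite X] (hX : IsMNP p X) (hpq : p ≠ q)
    (hr : 1 ≤ r) (hcard : Nat.card X = p ^ t * q ^ r) :
    ∃ (P : Subgroup X) (_ : P.Normal) (y : X), IsPGroup p P ∧ Nat.card P = p ^ t ∧
      orderOf y = q ^ r ∧ P ⊔ zpowers y = ⊤ ∧ (MulAut.conjNormal y : MulAut P) ^ q = 1 ∧
      (MulAut.conjNormal y : MulAut P) ≠ 1 ∧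
      ∀ M : Subgroup P, M ≠ ⊤ → (∀ x ∈ M, (MulAut.conjNormal y : MulAut P) x ∈ M) →
        ∀ x ∈ M, (MulAut.conjNormal y : MulAut P) x = x := by
  classical
  have hp : p.Prime := Fact.out
  have hq : q.Prime := Fact.out
  obtain ⟨hnil, -, hPn⟩ := S0132.result hX.1 hX.2
  obtain ⟨P⟩ := (inferInstance : Nonempty (Sylow p X))
  obtain ⟨R⟩ := (inferInstance : Nonempty (Sylow q X))
  haveI := hPn P
  have hcop : (p ^ t).Coprime (q ^ r) := ((Nat.coprime_primes hp hq).2 hpq).pow t r
  have hPc : Nat.card (P : Subgroup X) = p ^ t := by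
    rw [P.card_eq_multiplicity, hcard,
      Nat.factorization_mul_apply_of_coprime hcop, Nat.factorization_pow, Nat.factorization_pow,
      hp.factorization, hq.factorization]
    simp [Finsupp.single_apply, hpq.symm]
  have hRc : Nat.card (R : Subgroup X) = q ^ r := by
    rw [R.card_eq_multiplicity, hcard,
      Nat.factorization_mul_apply_of_coprime hcop, Nat.factorization_pow, Nat.factorization_pow,
      hp.factorization, hq.factorization]
    simp [Finsupp.single_apply, hpq]
  have hcompl : IsComplement' (R : Subgroup X) (P : Subgroup X) :=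
    isComplement'_of_coprime (by rw [hPc, hRc, hcard, mul_comm])
      (by rw [hPc, hRc]; exact hcop.symm)
  obtain ⟨y, hyR, hyc⟩ : ∃ y ∈ (R : Subgroup X), y ∉ centralizer ((P : Subgroup X) : Set X) := by
    by_contra hc
    push Not at hc
    refine hX.1 ⟨P, R, ?_, hcompl⟩
    rw [← normalizer_eq_top_iff, eq_top_iff, ← hcompl.symm.sup_eq_top]
    refine sup_le (fun g hg => ?_) le_normalizer
    apply centralizer_le_normalizer
    rw [mem_centralizer_iff]
    intro h hh
    exact (mem_centralizer_iff.1 (hc h hh) g hg).symm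
  obtain ⟨k, hk⟩ := IsPGroup.iff_orderOf.mp R.isPGroup' ⟨y, hyR⟩
  rw [Subgroup.orderOf_mk] at hk
  have hpy : ∀ z ∈ (P : Subgroup X), ∀ w : X, w ∈ zpowers y →
      (orderOf z).Coprime (orderOf w) := by
    intro z hz w hw
    obtain ⟨i, hi⟩ := P.isPGroup' ⟨z, hz⟩
    have h1 : orderOf z ∣ p ^ i := orderOf_dvd_of_pow_eq_one (congrArg Subtype.val hi)
    have h2 : orderOf w ∣ q ^ k := by
      obtain ⟨n, rfl⟩ := mem_zpowers_iff.1 hw
      refine orderOf_dvd_of_pow_eq_one ?_
      rw [← zpow_natCast, ← zpow_mul, mul_comm, zpow_mul, zpow_natCast, ← hk, pow_orderOf_eq_one,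
        one_zpow]
    exact Nat.Coprime.of_dvd h1 h2 (((Nat.coprime_primes hp hq).2 hpq).pow i k)
  have hnc : ∀ H : Subgroup X, H ≠ ⊤ → ∀ z ∈ H, z ∈ (P : Subgroup X) → ∀ w ∈ H, w ∈ zpowers y →
      Commute z w := by
    intro H hH z hzH hzP w hwH hwy
    have h := S0132.commute_of_nilpotent (hnil H hH) ⟨z, hzH⟩ ⟨w, hwH⟩ (by
      rw [Subgroup.orderOf_mk, Subgroup.orderOf_mk]; exact hpy z hzP w hwy)
    exact congrArg Subtype.val h.eq
  have htop : (P : Subgroup X) ⊔ zpowers y = ⊤ := by
    by_contra hne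
    refine hyc (mem_centralizer_iff.2 fun z hz => ?_)
    exact (hnc _ hne z (mem_sup_left hz) hz y (mem_sup_right (mem_zpowers y)) (mem_zpowers y)).eq
  have hle : ∀ (M : Subgroup X) (w : X), M ≤ (P : Subgroup X) → w ∈ normalizer (M : Set X) →
      M ⊔ zpowers w = ⊤ → p ^ t * q ^ r ≤ Nat.card M * orderOf w := by
    intro M w _ hw hsup
    have hsurj : Function.Surjective (fun z : M × zpowers w => (z.1 : X) * z.2) := by
      intro x
      have hx : x ∈ ((M ⊔ zpowers w : Subgroup X) : Set X) := by rw [hsup]; trivial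
      rw [coe_mul_of_right_le_normalizer_left M _ (zpowers_le.2 hw)] at hx
      obtain ⟨a, ha, b, hb, rfl⟩ := hx
      exact ⟨(⟨a, ha⟩, ⟨b, hb⟩), rfl⟩
    have := Nat.card_le_card_of_surjective _ hsurj
    rwa [Nat.card_prod, Nat.card_zpowers, hcard] at this
  have hord : orderOf y = q ^ r := by
    refine le_antisymm ?_ ?_
    · rw [← hRc, ← Nat.card_zpowers]
      exact Subgroup.card_le_of_le (zpowers_le.2 hyR)
    · have h := hle _ y le_rfl (by rw [normalizer_eq_top]; trivial) htop
      rw [hPc] at h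
      exact Nat.le_of_mul_le_mul_left h (pow_pos hp.pos t)
  have hyq : ∀ z ∈ (P : Subgroup X), y ^ q * z * (y ^ q)⁻¹ = z := by
    intro z hz
    have hproper : (P : Subgroup X) ⊔ zpowers (y ^ q) ≠ ⊤ := by
      intro e
      have h := hle _ (y ^ q) le_rfl (by rw [normalizer_eq_top]; trivial) e
      rw [hPc] at h
      have h2 := Nat.le_of_mul_le_mul_left h (pow_pos hp.pos t)
      rw [orderOf_pow, hord, Nat.gcd_eq_right (dvd_pow_self q (by omega))] at h2
      have := Nat.div_lt_self (pow_pos hq.pos r) hq.one_lt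
      omega
    exact mul_inv_eq_iff_eq_mul.2 (hnc _ hproper z (mem_sup_left hz) hz (y ^ q)
      (mem_sup_right (mem_zpowers _)) (pow_mem (mem_zpowers y) q)).eq.symm
  refine ⟨P, inferInstance, y, P.isPGroup', hPc, hord, htop, ?_, ?_, ?_⟩
  · refine MulEquiv.ext fun u => Subtype.ext ?_
    rw [← map_pow, MulAut.conjNormal_apply, hyq u u.2]
    rfl
  · intro h
    refine hyc (mem_centralizer_iff.2 fun z hz => ?_)
    have h1 := congrArg Subtype.val (DFunLike.congr_fun h ⟨z, hz⟩)
    rw [MulAut.conjNormal_apply, MulAut.one_apply] at h1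
    exact (mul_inv_eq_iff_eq_mul.1 h1).symm
  · intro M hM hinv x hx
    set M' := M.map (P : Subgroup X).subtype with hM'
    have hM'le : M' ≤ (P : Subgroup X) := map_subtype_le M
    have hyn : y ∈ normalizer (M' : Set X) := by
      refine mem_normalizer_fintype ?_
      rintro _ ⟨v, hv, rfl⟩
      exact ⟨_, hinv v hv, MulAut.conjNormal_apply y v⟩
    have hproper : M' ⊔ zpowers y ≠ ⊤ := by
      intro e
      have h := hle M' y hM'le hyn e
      rw [hord] at h
      have h2 : p ^ t ≤ Nat.card M' := Nat.le_of_mul_le_mul_right h (pow_pos hq.pos r)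
      have h3 : M' = (P : Subgroup X) := eq_of_le_of_card_ge hM'le (hPc ▸ h2)
      exact hM (top_le_iff.mp fun u _ => by
        obtain ⟨v, hv, hvu⟩ := (show (u : X) ∈ M' by rw [h3]; exact u.2)
        exact Subtype.ext hvu ▸ hv)
    refine Subtype.ext ?_
    rw [MulAut.conjNormal_apply]
    exact mul_inv_eq_iff_eq_mul.2 (hnc _ hproper x (mem_sup_left ⟨x, hx, rfl⟩) x.2 y
      (mem_sup_right (mem_zpowers y)) (mem_zpowers y)).eq.symm

variable {F : Type} [Field F] [Finite F] [Algebra (ZMod p) F] [CharP F p] {u : Fˣ}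

theorem FieldData.exists_frame_hom (D : FieldData p q a F (u : F)) (hr : 1 ≤ r) (hpq : p ≠ q)
    (hu : u ^ q ^ r = 1) {X : Type*} [Group X] [Finite X] (hX : IsMNP p X)
    (hcard : Nat.card X = p ^ t * q ^ r) :
    ∃ π : X →* Frame u hu, Function.Surjective π ∧ π.ker ≤ center X ∧
      IsPGroup p π.ker ∧ Nat.card π.ker ≤ if a % 2 = 1 then 1 else p ^ (a / 2) := by
  classical
  have hp : p.Prime := Fact.out
  have hq : q.Prime := Fact.out
  obtain ⟨P, hPn, y, hP, hPc, hord, htop, hαq, hα1, hfix⟩ := exists_schmidt_generator hX hpq hr hcard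
  haveI := hPn
  set α : MulAut P := MulAut.conjNormal y with hα
  obtain ⟨hcen, hne, hcomm, hpow, hexp, hfree, hirr⟩ := fixed_properties hP hq hpq α hαq hα1 hfix
  set K := fixedSubgroup α with hK
  haveI hKn : K.Normal := ⟨fun n hn g => by
    rw [mem_center_iff.1 (hcen hn) g, mul_inv_cancel_right]; exact hn⟩
  haveI : IsMulCommutative (P ⧸ K) := ⟨⟨fun x y => by
        obtain ⟨x, rfl⟩ := QuotientGroup.mk'_surjective K x
        obtain ⟨y, rfl⟩ := QuotientGroup.mk'_surjective K y
        rw [← map_mul, ← map_mul]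
        refine (QuotientGroup.eq.2 ?_)
        rw [show (x * y)⁻¹ * (y * x) = ⁅y⁻¹, x⁻¹⁆ by rw [commutatorElement_def]; group, ← hcomm]
        exact commutator_mem_commutator (mem_top _) (mem_top _)⟩⟩
  have hKle : K ≤ K.comap α.toMonoidHom := fun x hx => by
    show α (α x) = α x
    rw [mem_fixedSubgroup.1 hx, mem_fixedSubgroup.1 hx]
  let T : P ⧸ K →* P ⧸ K := QuotientGroup.map K K α.toMonoidHom hKle
  have hTmk : ∀ x : P, T (QuotientGroup.mk' K x) = QuotientGroup.mk' K (α x) := fun x => rfl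
  have hexpQ : ∀ v : P ⧸ K, v ^ p = 1 := by
    intro v
    obtain ⟨x, rfl⟩ := QuotientGroup.mk'_surjective K v
    rw [← map_pow]
    exact (QuotientGroup.eq_one_iff _).2 (hpow x)
  have hTpow : ∀ (n : ℕ) (x : P), (⇑T)^[n] (QuotientGroup.mk' K x) =
      QuotientGroup.mk' K ((α ^ n) x) := by
    intro n
    induction n with
    | zero => intro x; simp
    | succ n ih =>
      intro x
      rw [Function.iterate_succ_apply', ih, hTmk, pow_succ', MulAut.mul_apply]
  have hTq : ∀ v, (⇑T)^[q] v = v := fun v => by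
    obtain ⟨x, rfl⟩ := QuotientGroup.mk'_surjective K v
    rw [hTpow, hαq, MulAut.one_apply]
  have hTfree : ∀ v, T v = v → v = 1 := by
    intro v hv
    obtain ⟨x, rfl⟩ := QuotientGroup.mk'_surjective K v
    rw [hTmk] at hv
    exact (QuotientGroup.eq_one_iff x).2 (hfree x (QuotientGroup.eq.1 hv.symm))
  have hTne : ∃ v : P ⧸ K, v ≠ 1 := by
    obtain ⟨x, hx⟩ : ∃ x : P, x ∉ K := by
      by_contra hc
      push Not at hc
      exact hne (eq_top_iff.2 fun x _ => hc x)
    exact ⟨QuotientGroup.mk' K x, fun h => hx ((QuotientGroup.eq_one_iff x).1 h)⟩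
  have hTirr : ∀ S : Subgroup (P ⧸ K), (∀ v ∈ S, T v ∈ S) → S = ⊥ ∨ S = ⊤ := by
    intro S hS
    have hsur := QuotientGroup.mk'_surjective K
    have hKM : K ≤ S.comap (QuotientGroup.mk' K) := fun x hx => by
      rw [mem_comap, show QuotientGroup.mk' K x = 1 from (QuotientGroup.eq_one_iff x).2 hx]
      exact one_mem _
    rw [← Subgroup.map_comap_eq_self_of_surjective hsur S]
    rcases hirr _ hKM (fun x hx => hS _ hx) with h | h
    · exact Or.inl (by rw [h, Subgroup.map_eq_bot_iff, QuotientGroup.ker_mk'])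
    · exact Or.inr (by rw [h, map_top_of_surjective _ hsur])
  obtain ⟨ζ, E, hζ, hE⟩ := D.exists_group_iso hexpQ T hTq hTfree hTne hTirr
  let e : P →* Multiplicative F := E.toMonoidHom.comp (QuotientGroup.mk' K)
  have hesur : Function.Surjective e := E.surjective.comp (QuotientGroup.mk'_surjective K)
  have heker : e.ker = K := by
    rw [MonoidHom.ker_comp_of_injective, QuotientGroup.ker_mk']
    exact E.injective
  have heα : ∀ (n : ℕ) (x : P), Multiplicative.toAdd (e ((α ^ n) x)) =
      ζ ^ n * Multiplicative.toAdd (e x) := by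
    intro n
    induction n with
    | zero => intro x; simp
    | succ n ih =>
      intro x
      rw [pow_succ', MulAut.mul_apply, pow_succ', mul_assoc, ← ih]
      exact hE (QuotientGroup.mk' K ((α ^ n) x))
  -- replace `y` by a power
  obtain ⟨m, -, hm⟩ : ∃ m < q, ζ ^ m = (u : F) := by
    haveI : NeZero q := ⟨hq.ne_zero⟩
    exact (hζ ▸ IsPrimitiveRoot.orderOf ζ).eq_pow_of_pow_eq_one D.pow_q
  have hqm : ¬ q ∣ m := by
    intro h
    rw [← hζ, orderOf_dvd_iff_pow_eq_one, hm] at h
    exact D.ne_one h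
  set y' := y ^ m with hy'
  have hord' : orderOf y' = q ^ r := by
    rw [hy', Nat.Coprime.orderOf_pow, hord]
    rw [hord]; exact ((hq.coprime_iff_not_dvd.2 hqm)).pow_left r
  have hy'pow : y' ^ q ^ r = 1 := hord' ▸ pow_orderOf_eq_one y'
  have hz : zpowers y' = zpowers y := by
    refine eq_of_le_of_card_ge (zpowers_le.2 (pow_mem (mem_zpowers y) m)) ?_
    rw [Nat.card_zpowers, Nat.card_zpowers, hord, hord']
  set g := powHom y' hy'pow with hg
  let ξ : P ⋊[MulAut.conjNormal.comp g] Multiplicative (ZMod (q ^ r)) →* X :=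
    SemidirectProduct.lift P.subtype g (fun i => MonoidHom.ext fun x => by
      simp [MulAut.conjNormal_apply, MulAut.conj_apply])
  have hξ : ∀ z, ξ z = (z.left : X) * g z.right := fun z => rfl
  have hξsur : Function.Surjective ξ := by
    intro x
    have hx : x ∈ P ⊔ zpowers y' := by rw [hz, htop]; trivial
    obtain ⟨b, hb, c, hc, rfl⟩ := mem_sup_of_normal_left.1 hx
    obtain ⟨i, hi⟩ := (mem_powers_iff_mem_zpowers).2 hc
    refine ⟨⟨⟨b, hb⟩, Multiplicative.ofAdd (i : ZMod (q ^ r))⟩, ?_⟩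
    rw [hξ, hg, powHom_apply, toAdd_ofAdd, ZMod.val_natCast]
    show b * _ = b * c
    rw [← hord', pow_mod_orderOf]
    exact congrArg (b * ·) hi
  haveI : Finite (P ⋊[MulAut.conjNormal.comp g] Multiplicative (ZMod (q ^ r))) :=
    Finite.of_equiv _ SemidirectProduct.equivProd.symm
  have hξbij : Function.Bijective ξ := hξsur.bijective_of_nat_card_le (by
    rw [SemidirectProduct.card, Nat.card_congr (Multiplicative.toAdd (α := ZMod (q ^ r))),
      Nat.card_zmod, hPc, hcard])
  let ξe := MulEquiv.ofBijective ξ hξbij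
  let π₁ : P ⋊[MulAut.conjNormal.comp g] Multiplicative (ZMod (q ^ r)) →* Frame u hu :=
    SemidirectProduct.map e (MonoidHom.id _) (fun i => by
      refine MonoidHom.ext fun x => Multiplicative.toAdd.injective ?_
      show Multiplicative.toAdd (e (MulAut.conjNormal (g i) x)) = _
      rw [hg, powHom_apply, hy', ← pow_mul, map_pow, ← hα, heα, pow_mul, hm]
      exact (toAdd_act u hu i (e x)).symm)
  let π : X →* Frame u hu := π₁.comp ξe.symm.toMonoidHom
  have hπsur : Function.Surjective π := by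
    intro w
    obtain ⟨x, hx⟩ := hesur w.left
    refine ⟨ξ ⟨x, w.right⟩, ?_⟩
    show π₁ (ξe.symm (ξe ⟨x, w.right⟩)) = w
    rw [ξe.symm_apply_apply]
    exact SemidirectProduct.ext hx rfl
  have hπker : ∀ x ∈ π.ker, ∃ k ∈ K, (k : X) = x := by
    intro x hx
    obtain ⟨z, rfl⟩ := hξsur x
    have h : π₁ z = 1 := by
      have := MonoidHom.mem_ker.1 hx
      rwa [show π (ξ z) = π₁ (ξe.symm (ξe z)) from rfl, ξe.symm_apply_apply] at this
    have h1 : e z.left = 1 := congrArg SemidirectProduct.left h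
    have h2 : z.right = 1 := congrArg SemidirectProduct.right h
    exact ⟨z.left, heker ▸ MonoidHom.mem_ker.2 h1, by rw [hξ, h2, map_one, mul_one]⟩
  refine ⟨π, hπsur, ?_, ?_, ?_⟩
  · intro x hx
    obtain ⟨k, hk, rfl⟩ := hπker x hx
    rw [mem_center_iff]
    have hall : P ⊔ zpowers y ≤ centralizer {(k : X)} := by
      refine sup_le (fun b hb => ?_) (zpowers_le.2 ?_)
      · rw [mem_centralizer_singleton_iff]
        exact congrArg Subtype.val (mem_center_iff.1 (hcen hk) ⟨b, hb⟩)
      · rw [mem_centralizer_singleton_iff]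
        have := congrArg Subtype.val (mem_fixedSubgroup.1 hk)
        rw [MulAut.conjNormal_apply] at this
        exact mul_inv_eq_iff_eq_mul.1 this
    intro b
    exact mem_centralizer_singleton_iff.1 (hall (htop ▸ mem_top b))
  · intro x
    obtain ⟨k, hk, hkx⟩ := hπker x x.2
    refine ⟨1, Subtype.ext ?_⟩
    rw [pow_one, Subgroup.coe_pow, Subgroup.coe_one, ← hkx]
    exact congrArg Subtype.val (hexp k hk)
  · haveI : IsMulCommutative K := ⟨⟨fun x z => Subtype.ext
      (mem_center_iff.1 (hcen z.2) (x : P))⟩⟩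
    obtain ⟨c, hc1, hc2, hc3⟩ := exists_commutator_pairing K hcen hcomm e hesur heker (α ^ m)
      ((u : F) * ·) (fun x => by rw [heα, hm]) (fun x hx => by
        have hn : ∀ n : ℕ, (α ^ n) x = x := by
          intro n
          induction n with
          | zero => simp
          | succ n ih => rw [pow_succ', MulAut.mul_apply, ih, mem_fixedSubgroup.1 hx]
        exact hn _)
    refine le_trans ?_ (D.card_le_of_invariant c hc1 hc2 hc3)
    rw [Nat.card_congr Additive.toMul]
    choose f hf using fun x : π.ker => hπker x x.2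
    refine Nat.card_le_card_of_injective (fun x => (⟨f x, (hf x).1⟩ : K)) fun x z h => ?_
    apply Subtype.ext
    rw [← (hf x).2, ← (hf z).2]
    exact congrArg (fun w : K => ((w : P) : X)) h

end Cfsg.Agent.Lib.SchmidtUniv
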