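import Cfsg.Agent.Lib.SchmidtUniv.Structure
import Cfsg.Agent.Lib.SchmidtUniv.Cover

/-!
The maximal cover maps onto every minimal non-`p`-nilpotent group of order `p^t q^r`.
-/

set_option autoImplicit false

namespace Cfsg.Agent.Lib.SchmidtUniv

open Subgroup

variable {p q a r : ℕ} [Fact p.Prime] [Fact q.Prime] {F : Type} [Field F] [Finite F]
  [Algebra (ZMod p) F] [CharP F p] {u : Fˣ}

theorem FieldData.exists_universal_hom (D : FieldData p q a F (u : F)) (hr : 1 ≤ r) (hpq : p ≠ q)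
    (hu : u ^ q ^ r = 1) {X₀ : Type} [Group X₀] [Finite X₀] (π₀ : X₀ →* Frame u hu)
    (hπ₀ : Function.Surjective π₀) (hc₀ : π₀.ker ≤ center X₀) (hk₀ : IsPGroup p π₀.ker)
    (hm₀ : ∀ H : Subgroup X₀, H.map π₀ = ⊤ → H = ⊤)
    (hcard₀ : Nat.card X₀ = p ^ (if a % 2 = 1 then a else 3 * a / 2) * q ^ r)
    {X : Type*} [Group X] [Finite X] (hX : IsMNP p X)
    {t : ℕ} (hcard : Nat.card X = p ^ t * q ^ r) :
    ∃ φ : X₀ →* X, Function.Surjective φ ∧ φ.ker ≤ center X₀ := by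
  classical
  obtain ⟨π, hπ, hc, hk, -⟩ := D.exists_frame_hom hr hpq hu hX hcard
  haveI := finite_frame hu
  have hm : ∀ H : Subgroup X, H.map π = ⊤ → H = ⊤ := by
    intro H hH
    by_contra hne
    have h := Transfer.hasNormalPComplement_map π (hX.2 H hne)
    rw [hH] at h
    exact D.not_npc_frame hr hu (Transfer.hasNormalPComplement_of_surjective
      (topEquiv : (⊤ : Subgroup (Frame u hu)) ≃* _).toMonoidHom topEquiv.surjective h)
  let E : Subgroup (X × X₀) := (π.comp (MonoidHom.fst X X₀)).eqLocus (π₀.comp (MonoidHom.snd X X₀))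
  have hE : ∀ z : X × X₀, z ∈ E ↔ π z.1 = π₀ z.2 := fun z => Iff.rfl
  set fW : X × X₀ →* Frame u hu := π.comp (MonoidHom.fst X X₀) with hfW
  have hEtop : E.map fW = ⊤ := by
    rw [eq_top_iff]
    intro w _
    obtain ⟨x, rfl⟩ := hπ w
    obtain ⟨z, hz⟩ := hπ₀ (π x)
    exact ⟨(x, z), hz.symm, rfl⟩
  obtain ⟨Y, ⟨hYE, hYtop⟩, hYmin⟩ :
      ∃ Y, Minimal (fun H : Subgroup (X × X₀) => H ≤ E ∧ H.map fW = ⊤) Y := by
    obtain ⟨Y, -, hY⟩ := exists_minimal_le_of_wellFoundedLT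
      (fun H : Subgroup (X × X₀) => H ≤ E ∧ H.map fW = ⊤) E ⟨le_rfl, hEtop⟩
    exact ⟨Y, hY⟩
  let ρ : Y →* Frame u hu := fW.comp Y.subtype
  have hρ : Function.Surjective ρ := by
    intro w
    obtain ⟨z, hz, rfl⟩ := (hYtop ▸ mem_top w : w ∈ Y.map fW)
    exact ⟨⟨z, hz⟩, rfl⟩
  have hρk : ∀ z : Y, z ∈ ρ.ker → (z : X × X₀).1 ∈ π.ker ∧ (z : X × X₀).2 ∈ π₀.ker := by
    intro z hz
    have h1 : π (z : X × X₀).1 = 1 := MonoidHom.mem_ker.1 hz
    exact ⟨MonoidHom.mem_ker.2 h1, MonoidHom.mem_ker.2 ((hE _).1 (hYE z.2) ▸ h1)⟩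
  have hρc : ρ.ker ≤ center Y := by
    intro z hz
    rw [mem_center_iff]
    intro w
    exact Subtype.ext (Prod.ext (mem_center_iff.1 (hc (hρk z hz).1) _)
      (mem_center_iff.1 (hc₀ (hρk z hz).2) _))
  have hρp : IsPGroup p ρ.ker := by
    intro z
    obtain ⟨h1, h2⟩ := hρk z z.2
    obtain ⟨i, hi⟩ := hk ⟨_, h1⟩
    obtain ⟨j, hj⟩ := hk₀ ⟨_, h2⟩
    refine ⟨i + j, Subtype.ext (Subtype.ext (Prod.ext ?_ ?_))⟩
    · have := congrArg Subtype.val hi
      simp only [Subgroup.coe_pow, Subgroup.coe_one] at this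
      simp [pow_add, pow_mul, this]
    · have := congrArg Subtype.val hj
      simp only [Subgroup.coe_pow, Subgroup.coe_one] at this
      simp [pow_add, mul_comm (p ^ i), pow_mul, this]
  have hρm : ∀ H : Subgroup Y, H.map ρ = ⊤ → H = ⊤ := by
    intro H hH
    have h1 : H.map Y.subtype ≤ Y := map_subtype_le H
    have h2 := hYmin (y := H.map Y.subtype) ⟨h1.trans hYE, by rw [map_map]; exact hH⟩ h1
    rw [eq_top_iff]
    intro z _
    obtain ⟨w, hw, hwz⟩ := h2 z.2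
    exact Subtype.ext hwz ▸ hw
  have hY := D.isMNP_of_cover hr hu ρ hρ hρc hρm
  -- the two projections
  let f₀ : Y →* X₀ := (MonoidHom.snd X X₀).comp Y.subtype
  let f : Y →* X := (MonoidHom.fst X X₀).comp Y.subtype
  have hf₀ : Function.Surjective f₀ := by
    rw [← MonoidHom.range_eq_top]
    refine hm₀ _ (eq_top_iff.2 fun w _ => ?_)
    obtain ⟨z, rfl⟩ := hρ w
    exact ⟨f₀ z, ⟨z, rfl⟩, ((hE _).1 (hYE z.2)).symm⟩
  have hf : Function.Surjective f := by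
    rw [← MonoidHom.range_eq_top]
    refine hm _ (eq_top_iff.2 fun w _ => ?_)
    obtain ⟨z, rfl⟩ := hρ w
    exact ⟨f z, ⟨z, rfl⟩, rfl⟩
  obtain ⟨i, hi⟩ := IsPGroup.iff_card.1 hρp
  have hidx : ρ.ker.index = p ^ a * q ^ r := by
    rw [Subgroup.index_ker, MonoidHom.range_eq_top.2 hρ, card_top, D.card_frame hu]
  have hYcard : Nat.card Y = p ^ (a + i) * q ^ r := by
    rw [← card_mul_index ρ.ker, hidx, hi, pow_add]; ring
  obtain ⟨σ, hσ, -, -, hσle⟩ := D.exists_frame_hom hr hpq hu hY hYcard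
  have hYle : Nat.card Y ≤ Nat.card X₀ := by
    have h1 : σ.ker.index = p ^ a * q ^ r := by
      rw [Subgroup.index_ker, MonoidHom.range_eq_top.2 hσ, card_top, D.card_frame hu]
    rw [← card_mul_index σ.ker, h1, hcard₀, ← mul_assoc]
    refine Nat.mul_le_mul_right _ (le_trans (Nat.mul_le_mul_right _ hσle) ?_)
    split_ifs
    · rw [one_mul]
    · rw [← pow_add]
      exact Nat.pow_le_pow_right (Fact.out : p.Prime).pos (by omega)
  let e := MulEquiv.ofBijective f₀ (hf₀.bijective_of_nat_card_le hYle)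
  refine ⟨f.comp e.symm.toMonoidHom, hf.comp e.symm.surjective, fun w hw => ?_⟩
  obtain ⟨z, rfl⟩ := e.surjective w
  have hz : f z = 1 := by
    have h := MonoidHom.mem_ker.1 hw
    rwa [MonoidHom.comp_apply, MulEquiv.coe_toMonoidHom, e.symm_apply_apply] at h
  refine hc₀ (MonoidHom.mem_ker.2 ?_)
  show π₀ (f₀ z) = 1
  rw [show π₀ (f₀ z) = π (f z) from ((hE _).1 (hYE z.2)).symm, hz, map_one]

end Cfsg.Agent.Lib.SchmidtUniv
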